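import Cfsg.Agent.BC87.ThreeDeg.Tools
import Cfsg.Agent.CharDeep.Ext.Avg

/-!
# Coprime degrees: the small degrees are closed under products
-/

namespace Cfsg.Agent.BC87.ThreeDeg

open CharDeep.Deg
open scoped ComplexConjugate

universe u

variable {G : Type u} [Group G] [Fintype G] {a b : ℕ}

omit [Group G] in
theorem classInner_mul [Group G] (f g h : G → ℂ) :
    Cfsg.classInner (fun x => f x * g x) h = Cfsg.classInner g (fun x => conj (f x) * h x) := by
  unfold Cfsg.classInner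
  congr 1
  refine Finset.sum_congr rfl fun x _ => ?_
  rw [map_mul, Complex.conj_conj]
  ring

theorem classInner_ne_symm {f g : G → ℂ} (h : Cfsg.classInner f g ≠ 0) :
    Cfsg.classInner g f ≠ 0 := by
  rw [← CharCore.conj_classInner]
  simpa using h

theorem isCharacter_conj_mul (θ φ : Cfsg.IrrCharacter G) :
    Cfsg.IsCharacter G (fun x => conj ((θ : G → ℂ) x) * (φ : G → ℂ) x) :=
  CharCore.isCharacter_mul (CharCore.IsCharacter.star (CharCore.irr_isCharacter θ))
    (CharCore.irr_isCharacter φ)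

theorem conj_mul_apply_one (θ φ : Cfsg.IrrCharacter G) :
    conj ((θ : G → ℂ) 1) * (φ : G → ℂ) 1 =
      ((Cfsg.charDegree (θ : G → ℂ) * Cfsg.charDegree (φ : G → ℂ) : ℕ) : ℂ) := by
  rw [apply_one θ, apply_one φ, map_natCast, Nat.cast_mul]

/-- A product with a linear character is irreducible of the same degree. -/
theorem exists_twist (l : G →* ℂˣ) (φ : Cfsg.IrrCharacter G) :
    ∃ φ' : Cfsg.IrrCharacter G, (φ' : G → ℂ) = (fun x => (l x : ℂ) * (φ : G → ℂ) x) ∧
      Cfsg.charDegree (φ' : G → ℂ) = Cfsg.charDegree (φ : G → ℂ) :=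
  ⟨⟨_, CharCore.isIrrCharacter_hom_mul l φ.2⟩, rfl, degree_of_eq (by simp [apply_one φ])⟩

omit [Fintype G] in
theorem exists_hom [Finite G] {φ : Cfsg.IrrCharacter G} (h : Cfsg.charDegree (φ : G → ℂ) = 1) :
    ∃ l : G →* ℂˣ, (φ : G → ℂ) = fun x => (l x : ℂ) :=
  CharCore.IsCharacter.exists_hom_of_degree_one (CharCore.irr_isCharacter φ)
    (by rw [apply_one φ, h, Nat.cast_one])

theorem conj_hom_apply (l : G →* ℂˣ) (x : G) : conj (l x : ℂ) = (l⁻¹ x : ℂ) := by
  rw [MonoidHom.inv_apply, Units.val_inv_eq_inv_val,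
    Complex.inv_eq_conj (CharCore.norm_hom_apply l x)]

variable (h : Deg3 G a b) (ha : 1 < a) (hab : a < b) (hcop : Nat.Coprime a b)
  (hfaith : ∀ ψ : Cfsg.IrrCharacter G, Cfsg.charDegree (ψ : G → ℂ) = b →
    ∀ g : G, (ψ : G → ℂ) g = (ψ : G → ℂ) 1 → g = 1)

include h ha hab in
theorem degree_split {f : G → ℂ} (hf : Cfsg.IsCharacter G f) {n : ℕ} (hn : f 1 = n)
    (hlin : ∀ φ : Cfsg.IrrCharacter G, Cfsg.charDegree (φ : G → ℂ) = 1 →
      Cfsg.classInner f (φ : G → ℂ) = 0) :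
    ∃ (m : Cfsg.IrrCharacter G → ℕ) (s t : ℕ), f = ∑ φ : Cfsg.IrrCharacter G,
        (m φ : ℂ) • (φ : G → ℂ) ∧
      (∀ φ : Cfsg.IrrCharacter G, Cfsg.classInner f (φ : G → ℂ) = m φ) ∧
      n = s * a + t * b ∧
      (∀ φ : Cfsg.IrrCharacter G, Cfsg.charDegree (φ : G → ℂ) = a → m φ ≤ s) ∧
      (∀ φ : Cfsg.IrrCharacter G, Cfsg.charDegree (φ : G → ℂ) = b → m φ ≤ t) ∧
      (t = 0 → s = ∑ φ : Cfsg.IrrCharacter G, m φ) := by
  classical
  obtain ⟨m, hm, hmi, hsum⟩ := sum_degree hf hn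
  have hzero : ∀ φ : Cfsg.IrrCharacter G, Cfsg.charDegree (φ : G → ℂ) = 1 → m φ = 0 := fun φ hφ => by
    have h0 := hlin φ hφ
    rw [hmi] at h0
    exact_mod_cast h0
  let A := Finset.univ.filter fun φ : Cfsg.IrrCharacter G => Cfsg.charDegree (φ : G → ℂ) = a
  let B := Finset.univ.filter fun φ : Cfsg.IrrCharacter G => Cfsg.charDegree (φ : G → ℂ) = b
  refine ⟨m, ∑ φ ∈ A, m φ, ∑ φ ∈ B, m φ, hm, hmi, ?_, fun φ hφ => ?_, fun φ hφ => ?_, fun ht => ?_⟩
  · rw [hsum, Finset.sum_mul, Finset.sum_mul]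
    simp only [A, B, Finset.sum_filter, ← Finset.sum_add_distrib]
    refine Finset.sum_congr rfl fun φ _ => ?_
    rcases h φ with h' | h' | h'
    · rw [hzero φ h']; simp
    · rw [if_pos h', if_neg (by omega), h']; simp
    · rw [if_neg (by omega), if_pos h', h']; simp
  · exact Finset.single_le_sum (fun i _ => Nat.zero_le (m i))
      (Finset.mem_filter.mpr ⟨Finset.mem_univ φ, hφ⟩)
  · exact Finset.single_le_sum (fun i _ => Nat.zero_le (m i))
      (Finset.mem_filter.mpr ⟨Finset.mem_univ φ, hφ⟩)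
  · refine Finset.sum_subset (Finset.subset_univ A) fun φ _ hφ => ?_
    rcases h φ with h' | h' | h'
    · exact hzero φ h'
    · exact absurd (Finset.mem_filter.mpr ⟨Finset.mem_univ φ, h'⟩) hφ
    · exact (Finset.sum_eq_zero_iff.mp ht) φ (Finset.mem_filter.mpr ⟨Finset.mem_univ φ, h'⟩)

include h ha hab hcop in
theorem exists_twist_of_constituent (χ χ' ψ : Cfsg.IrrCharacter G)
    (hχ : Cfsg.charDegree (χ : G → ℂ) = a) (hχ' : Cfsg.charDegree (χ' : G → ℂ) = a)
    (hψ : Cfsg.charDegree (ψ : G → ℂ) = b)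
    (hne : Cfsg.classInner (fun x => conj ((χ' : G → ℂ) x) * (χ : G → ℂ) x) (ψ : G → ℂ) ≠ 0) :
    ∃ l : G →* ℂˣ, (χ : G → ℂ) = fun x => (l x : ℂ) * (χ' : G → ℂ) x := by
  by_contra hno
  push Not at hno
  have h1 := conj_mul_apply_one χ' χ
  rw [hχ, hχ'] at h1
  obtain ⟨m, s, t, -, hmi, hsum, -, hmb, -⟩ :=
    degree_split h ha hab (isCharacter_conj_mul χ' χ) (n := a * a) h1 (fun φ hφ => by
      by_contra hc
      obtain ⟨l, hl⟩ := exists_hom hφ
      rw [classInner_mul] at hc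
      simp only [Complex.conj_conj] at hc
      obtain ⟨χ'', hχ'', -⟩ := exists_twist l χ'
      have he : (fun x => (χ' : G → ℂ) x * (φ : G → ℂ) x) = (χ'' : G → ℂ) := by
        rw [hχ'', hl]
        funext x
        ring
      rw [he] at hc
      have : χ = χ'' := by
        by_contra hd
        exact hc (CharCore.classInner_irr_of_ne hd)
      exact hno l (this ▸ hχ''))
  have hm0 : 1 ≤ m ψ := Nat.one_le_iff_ne_zero.mpr fun e => hne (by rw [hmi, e, Nat.cast_zero])
  have ht : 1 ≤ t := hm0.trans (hmb ψ hψ)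
  have hd : a ∣ t * b := (Nat.dvd_add_right (dvd_mul_left a s)).mp (hsum ▸ dvd_mul_left a a)
  have hat : a ≤ t := Nat.le_of_dvd ht (hcop.dvd_of_dvd_mul_right hd)
  nlinarith [Nat.mul_le_mul_right b hat]

include h ha hab hcop hfaith in
/-- No character of degree `b` occurs in a product of two characters of degree `a`. -/
theorem classInner_conj_mul_eq_zero (χ χ' ψ : Cfsg.IrrCharacter G)
    (hχ : Cfsg.charDegree (χ : G → ℂ) = a) (hχ' : Cfsg.charDegree (χ' : G → ℂ) = a)
    (hψ : Cfsg.charDegree (ψ : G → ℂ) = b) :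
    Cfsg.classInner (fun x => conj ((χ' : G → ℂ) x) * (χ : G → ℂ) x) (ψ : G → ℂ) = 0 := by
  classical
  by_contra hne
  let g : G → ℂ := fun x => (χ' : G → ℂ) x * (ψ : G → ℂ) x
  have hg : Cfsg.IsCharacter G g :=
    CharCore.isCharacter_mul (CharCore.irr_isCharacter χ') (CharCore.irr_isCharacter ψ)
  have hg1 : g 1 = ((a * b : ℕ) : ℂ) := by
    show (χ' : G → ℂ) 1 * (ψ : G → ℂ) 1 = _
    rw [apply_one χ', apply_one ψ, hχ', hψ, Nat.cast_mul]
  obtain ⟨m, s, t, hm, hmi, hsum, hma, hmb, hms⟩ :=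
    degree_split h ha hab hg hg1 (fun φ hφ => by
      by_contra hc
      obtain ⟨l, hl⟩ := exists_hom hφ
      rw [classInner_mul] at hc
      obtain ⟨χ'', hχ'', hχ''1⟩ :=
        exists_twist l ⟨_, CharCore.isIrrCharacter_star χ'.2⟩
      have hs : Cfsg.charDegree (fun x => conj ((χ' : G → ℂ) x)) = a :=
        degree_of_eq (by rw [apply_one χ', hχ', map_natCast])
      have he : (fun x => conj ((χ' : G → ℂ) x) * (φ : G → ℂ) x) = (χ'' : G → ℂ) := by
        rw [hχ'', hl]
        funext x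
        ring
      rw [he] at hc
      have : ψ = χ'' := by
        by_contra hd
        exact hc (CharCore.classInner_irr_of_ne hd)
      rw [this, hχ''1] at hψ
      exact absurd (hs.symm.trans hψ) (by omega))
  have hswap : ∀ φ : Cfsg.IrrCharacter G, Cfsg.classInner g (φ : G → ℂ) =
      Cfsg.classInner (ψ : G → ℂ) (fun x => conj ((χ' : G → ℂ) x) * (φ : G → ℂ) x) :=
    fun φ => classInner_mul _ _ _
  have hmχ : 1 ≤ m χ := Nat.one_le_iff_ne_zero.mpr fun e =>
    classInner_ne_symm hne (by rw [← hswap, hmi, e, Nat.cast_zero])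
  have hs1 : 1 ≤ s := hmχ.trans (hma χ hχ)
  have hd : b ∣ s * a := (Nat.dvd_add_left (dvd_mul_left b t)).mp (hsum ▸ dvd_mul_left b a)
  have hbs : b ≤ s := Nat.le_of_dvd hs1 (hcop.symm.dvd_of_dvd_mul_right hd)
  have hsa : b * a ≤ s * a := Nat.mul_le_mul_right a hbs
  have ht0 : t = 0 := by
    by_contra hc
    have := Nat.mul_pos (Nat.pos_of_ne_zero hc) (by omega : 0 < b)
    nlinarith
  have hsb : s = b := by
    rw [ht0, zero_mul, add_zero, mul_comm a b] at hsum
    exact (Nat.eq_of_mul_eq_mul_right (by omega) hsum).symm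
  have hval : ∀ x ∈ commutator G, g x = (b : ℂ) * (χ' : G → ℂ) x := by
    intro x hx
    have hx' : ∀ φ : Cfsg.IrrCharacter G,
        (m φ : ℂ) * (φ : G → ℂ) x = (m φ : ℂ) * (χ' : G → ℂ) x := by
      intro φ
      by_cases hφ : m φ = 0
      · rw [hφ, Nat.cast_zero, zero_mul, zero_mul]
      have hne' : Cfsg.classInner (fun x => conj ((χ' : G → ℂ) x) * (φ : G → ℂ) x)
          (ψ : G → ℂ) ≠ 0 :=
        classInner_ne_symm (by rw [← hswap, hmi]; exact_mod_cast hφ)
      have hφa : Cfsg.charDegree (φ : G → ℂ) = a := by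
        rcases h φ with h' | h' | h'
        · exfalso
          obtain ⟨l, hl⟩ := exists_hom h'
          obtain ⟨χ'', hχ'', hχ''1⟩ :=
            exists_twist l ⟨_, CharCore.isIrrCharacter_star χ'.2⟩
          have hs : Cfsg.charDegree (fun x => conj ((χ' : G → ℂ) x)) = a :=
            degree_of_eq (by rw [apply_one χ', hχ', map_natCast])
          have he : (fun x => conj ((χ' : G → ℂ) x) * (φ : G → ℂ) x) = (χ'' : G → ℂ) := by
            rw [hχ'', hl]
            funext x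
            ring
          rw [he] at hne'
          refine hne' (CharCore.classInner_irr_of_ne fun e => ?_)
          rw [e, hψ] at hχ''1
          exact absurd (hχ''1.trans hs) (by omega)
        · exact h'
        · exact absurd (hmb φ h') (by omega)
      obtain ⟨l, hl⟩ := exists_twist_of_constituent h ha hab hcop φ χ' ψ hφa hχ' hψ hne'
      have hlx : l x = 1 := Abelianization.commutator_subset_ker l hx
      rw [congrFun hl x, hlx, Units.val_one, one_mul]
    rw [congrFun hm x, Finset.sum_apply]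
    simp only [Pi.smul_apply, smul_eq_mul]
    rw [Finset.sum_congr rfl fun φ _ => hx' φ, ← Finset.sum_mul, ← Nat.cast_sum, ← hms ht0, hsb]
  have hzero : ∀ x ∈ commutator G, x ≠ 1 → (χ' : G → ℂ) x = 0 := by
    intro x hx hx1
    have h1 := hval x hx
    have h2 : (χ' : G → ℂ) x * ((ψ : G → ℂ) x - (b : ℂ)) = 0 := by
      rw [mul_sub, sub_eq_zero, mul_comm _ (b : ℂ)]
      exact h1
    refine (mul_eq_zero.mp h2).resolve_right fun h3 => hx1 (hfaith ψ hψ x ?_)
    rw [apply_one ψ, hψ]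
    exact sub_eq_zero.mp h3
  have := Fintype.ofFinite (commutator G)
  have havg : CharDeep.Ext.avg (commutator G) (χ' : G → ℂ) 1 ≠ 0 := by
    rw [CharDeep.Ext.avg_apply, Finset.sum_eq_single (1 : commutator G)
      (fun y _ hy => by
        rw [mul_one]
        exact hzero y y.2 fun e => hy (Subtype.ext e))
      (fun h0 => absurd (Finset.mem_univ _) h0), OneMemClass.coe_one, one_mul]
    exact mul_ne_zero (inv_ne_zero (Nat.cast_ne_zero.mpr Nat.card_pos.ne'))
      (CharCore.irr_apply_one_ne_zero χ')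
  have heq := (CharDeep.Ext.avg_irr (commutator G) χ').resolve_right fun e => havg (by rw [e]; rfl)
  have h1 : (χ' : G → ℂ) 1 = 1 := CharDeep.irr_apply_one_eq_one χ'.2 fun x hx y => by
    rw [← heq]
    exact CharDeep.Ext.avg_mul_left (commutator G) _ ⟨x, hx⟩ y
  have h2 : Cfsg.charDegree (χ' : G → ℂ) = 1 := degree_of_eq (by rw [h1, Nat.cast_one])
  omega

include h ha hab hcop hfaith in
theorem closed (φ θ ψ : Cfsg.IrrCharacter G) (hφ : Cfsg.charDegree (φ : G → ℂ) ≠ b)
    (hθ : Cfsg.charDegree (θ : G → ℂ) ≠ b) (hψ : Cfsg.charDegree (ψ : G → ℂ) = b) :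
    Cfsg.classInner (fun x => conj ((θ : G → ℂ) x) * (φ : G → ℂ) x) (ψ : G → ℂ) = 0 := by
  by_cases hθ1 : Cfsg.charDegree (θ : G → ℂ) = 1
  · obtain ⟨l, hl⟩ := exists_hom hθ1
    obtain ⟨φ', hφ', hφ'1⟩ := exists_twist l⁻¹ φ
    have he : (fun x => conj ((θ : G → ℂ) x) * (φ : G → ℂ) x) = (φ' : G → ℂ) := by
      rw [hφ', hl]
      funext x
      rw [conj_hom_apply]
    rw [he]
    exact CharCore.classInner_irr_of_ne fun e => hφ (by rw [← hφ'1, e, hψ])
  by_cases hφ1 : Cfsg.charDegree (φ : G → ℂ) = 1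
  · obtain ⟨l, hl⟩ := exists_hom hφ1
    obtain ⟨θ', hθ', hθ'1⟩ := exists_twist l ⟨_, CharCore.isIrrCharacter_star θ.2⟩
    have hs : Cfsg.charDegree (fun x => conj ((θ : G → ℂ) x)) = Cfsg.charDegree (θ : G → ℂ) :=
      degree_of_eq (by rw [apply_one θ, map_natCast])
    have he : (fun x => conj ((θ : G → ℂ) x) * (φ : G → ℂ) x) = (θ' : G → ℂ) := by
      rw [hθ', hl]
      funext x
      ring
    rw [he]
    exact CharCore.classInner_irr_of_ne fun e => hθ (by rw [← hs, ← hθ'1, e, hψ])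
  exact classInner_conj_mul_eq_zero h ha hab hcop hfaith φ θ ψ
    (((h φ).resolve_left hφ1).resolve_right hφ) (((h θ).resolve_left hθ1).resolve_right hθ) hψ

include h ha hab hcop hfaith in
/-- A nontrivial normal subgroup in the kernels of all the smaller degrees. -/
theorem exists_kernel (hb : ∃ ψ : Cfsg.IrrCharacter G, Cfsg.charDegree (ψ : G → ℂ) = b) :
    ∃ K : Subgroup G, K.Normal ∧ K ≠ ⊥ ∧ ∀ φ : Cfsg.IrrCharacter G,
      Cfsg.charDegree (φ : G → ℂ) ≠ b → ∀ k ∈ K, (φ : G → ℂ) k = (φ : G → ℂ) 1 := by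
  classical
  let K : Subgroup G := ⨅ φ : {φ : Cfsg.IrrCharacter G // Cfsg.charDegree (φ : G → ℂ) ≠ b},
    CharCore.charKernel (CharCore.irr_isCharacter φ.1)
  have hmem : ∀ k : G, k ∈ K ↔ ∀ φ : Cfsg.IrrCharacter G, Cfsg.charDegree (φ : G → ℂ) ≠ b →
      (φ : G → ℂ) k = (φ : G → ℂ) 1 := fun k => by
    simp only [K, Subgroup.mem_iInf, CharCore.mem_charKernel]
    exact ⟨fun hk φ hφ => hk ⟨φ, hφ⟩, fun hk φ => hk φ.1 φ.2⟩
  refine ⟨K, Subgroup.normal_iInf_normal fun φ => inferInstance, fun hK => ?_,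
    fun φ hφ k hk => (hmem k).mp hk φ hφ⟩
  let c : Cfsg.IrrCharacter G → ℂ := fun θ =>
    if Cfsg.charDegree (θ : G → ℂ) = b then 0 else (θ : G → ℂ) 1
  let f : G → ℂ := ∑ θ : Cfsg.IrrCharacter G, c θ • (θ : G → ℂ)
  have hfi : ∀ χ : Cfsg.IrrCharacter G, Cfsg.classInner f (χ : G → ℂ) = c χ :=
    fun χ => CharCore.classInner_sum_all c χ
  have hfc : Cfsg.IsClassFunction G f := CharCore.isClassFunction_sum_irr c
  have key : ∀ φ : Cfsg.IrrCharacter G, Cfsg.charDegree (φ : G → ℂ) ≠ b → ∀ g : G,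
      (φ : G → ℂ) g * f g = (φ : G → ℂ) 1 * f g := by
    intro φ hφ
    refine congrFun (CharCore.classFunction_ext (f := fun g => (φ : G → ℂ) g * f g)
      (f' := fun g => (φ : G → ℂ) 1 * f g) (fun x y => ?_) (fun x y => ?_) fun χ => ?_)
    · show (φ : G → ℂ) _ * f _ = _
      rw [CharCore.irr_isClassFunction φ x y, hfc x y]
    · show (φ : G → ℂ) 1 * f _ = _
      rw [hfc x y]
    have hR : Cfsg.classInner (fun g => (φ : G → ℂ) 1 * f g) (χ : G → ℂ) = (φ : G → ℂ) 1 * c χ := by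
      rw [← hfi χ]
      exact CharCore.classInner_smul_left ((φ : G → ℂ) 1) f _
    rw [hR, classInner_mul]
    obtain ⟨m, hm, hmi, hsum⟩ := sum_degree (isCharacter_conj_mul φ χ) (conj_mul_apply_one φ χ)
    have hL : Cfsg.classInner f (fun x => conj ((φ : G → ℂ) x) * (χ : G → ℂ) x) =
        ∑ θ : Cfsg.IrrCharacter G, c θ * (m θ : ℂ) := by
      rw [show f = ∑ θ : Cfsg.IrrCharacter G, c θ • (θ : G → ℂ) from rfl,
        CharCore.classInner_sum_left]
      refine Finset.sum_congr rfl fun θ _ => ?_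
      rw [CharCore.classInner_smul_left, ← CharCore.conj_classInner, hmi, map_natCast]
    rw [hL]
    by_cases hχ : Cfsg.charDegree (χ : G → ℂ) = b
    · rw [show c χ = 0 from if_pos hχ, mul_zero]
      refine Finset.sum_eq_zero fun θ _ => ?_
      by_cases hθ : Cfsg.charDegree (θ : G → ℂ) = b
      · rw [show c θ = 0 from if_pos hθ, zero_mul]
      have hs : Cfsg.charDegree (fun x => conj ((φ : G → ℂ) x)) ≠ b := by
        rw [degree_of_eq (n := Cfsg.charDegree (φ : G → ℂ)) (by rw [apply_one φ, map_natCast])]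
        exact hφ
      have h0 := closed h ha hab hcop hfaith θ ⟨_, CharCore.isIrrCharacter_star φ.2⟩ χ hθ hs hχ
      simp only [Complex.conj_conj] at h0
      rw [classInner_mul] at h0
      have h1 := congrArg conj h0
      rw [CharCore.conj_classInner, map_zero, hmi] at h1
      rw [h1, mul_zero]
    · rw [show c χ = (χ : G → ℂ) 1 from if_neg hχ, apply_one φ, apply_one χ, ← Nat.cast_mul,
        hsum, Nat.cast_sum]
      refine Finset.sum_congr rfl fun θ _ => ?_
      by_cases hθ : Cfsg.charDegree (θ : G → ℂ) = b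
      · have h0 := closed h ha hab hcop hfaith χ φ θ hχ hφ hθ
        rw [hmi, Nat.cast_eq_zero] at h0
        rw [show c θ = 0 from if_pos hθ, h0, zero_mul, Nat.cast_mul, Nat.cast_zero, zero_mul]
      · rw [show c θ = (θ : G → ℂ) 1 from if_neg hθ, apply_one θ, Nat.cast_mul, mul_comm]
  have hsupp : ∀ g : G, g ≠ 1 → f g = 0 := by
    intro g hg
    by_contra hf
    refine hg (Subgroup.mem_bot.mp (hK ▸ (hmem g).mpr fun φ hφ => ?_))
    exact mul_right_cancel₀ hf (key φ hφ g)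
  obtain ⟨ψ, hψ⟩ := hb
  have h0 : Cfsg.classInner f (ψ : G → ℂ) = 0 := by rw [hfi]; exact if_pos hψ
  rw [CharCore.classInner_def, Finset.sum_eq_single (1 : G)
    (fun g _ hg => by rw [hsupp g hg, zero_mul]) (fun h' => absurd (Finset.mem_univ _) h'),
    mul_eq_zero, mul_eq_zero] at h0
  rcases h0 with h0 | h0 | h0
  · exact inv_ne_zero (Nat.cast_ne_zero.mpr Nat.card_pos.ne') h0
  · let o : Cfsg.IrrCharacter G := ⟨1, CharCore.isIrrCharacter_one⟩
    have ho : Cfsg.charDegree (o : G → ℂ) ≠ b := by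
      rw [degree_of_eq (n := 1) (by simp [o])]; omega
    have hf1 : f 1 = ((∑ θ : Cfsg.IrrCharacter G, if Cfsg.charDegree (θ : G → ℂ) = b then 0
        else Cfsg.charDegree (θ : G → ℂ) * Cfsg.charDegree (θ : G → ℂ) : ℕ) : ℂ) := by
      show (∑ θ : Cfsg.IrrCharacter G, c θ • (θ : G → ℂ)) 1 = _
      rw [Finset.sum_apply, Nat.cast_sum]
      refine Finset.sum_congr rfl fun θ _ => ?_
      simp only [c, Pi.smul_apply, smul_eq_mul]
      split_ifs
      · simp
      · rw [apply_one θ, Nat.cast_mul]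
    rw [hf1, Nat.cast_eq_zero, Finset.sum_eq_zero_iff] at h0
    have h1 := h0 o (Finset.mem_univ _)
    rw [if_neg ho, Nat.mul_eq_zero] at h1
    exact absurd (degree_pos o) (by omega)
  · rw [map_eq_zero] at h0
    exact CharCore.irr_apply_one_ne_zero ψ h0

end Cfsg.Agent.BC87.ThreeDeg
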