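import Cfsg.Agent.BC87.ThreeDeg.Moved
import Cfsg.Agent.CharDeep.Deg.NilLength

/-!
# At most three degrees: derived length at most three
-/

namespace Cfsg.Agent.BC87.ThreeDeg

open CharDeep.Deg
open scoped commutatorElement

universe u

theorem derivedSeries_three_aux : ∀ (n : ℕ) (G : Type u) [Group G] [Finite G], Nat.card G ≤ n →
    ∀ a b : ℕ, Deg3 G a b → derivedSeries G 3 = ⊥ := by
  intro n
  induction n with
  | zero => intro G _ _ h; exact absurd h (not_le_of_gt Nat.card_pos)
  | succ n ih =>
    intro G _ _ hn a₀ b₀ h₀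
    classical
    have := Fintype.ofFinite G
    have hsolv : Group.IsSolvable G := isSolvable h₀
    rcases h₀.normalize with ⟨m, hm⟩ | ⟨a, b, ha, hab, h, ⟨χa, hχa⟩, ⟨χb, hχb⟩⟩
    · exact le_bot_iff.mp ((derivedSeries_antitone G (by norm_num : 2 ≤ 3)).trans
        (derivedSeries_two hm).le)
    have hquot : ∀ (N : Subgroup G) [N.Normal], N ≠ ⊥ → derivedSeries G 3 ≤ N := by
      intro N _ hN
      refine derivedSeries_le_of_quotient N 3 (ih (G ⧸ N) ?_ a b (h.quotient N))
      have h1 : 1 < Nat.card N := (Subgroup.one_lt_card_iff_ne_bot N).mpr hN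
      have h2 := Subgroup.card_eq_card_quotient_mul_card_subgroup N
      have h3 : 0 < Nat.card (G ⧸ N) := Nat.card_pos
      nlinarith
    by_contra hne
    set F := Cfsg.fittingSubgroup G with hFdef
    haveI hFn : F.Normal := inferInstance
    haveI hFnil : Group.IsNilpotent F := Fitting.fitting_isNilpotent
    -- the Fitting subgroup is not everything
    have hFtop : F ≠ ⊤ := by
      intro e
      haveI : Group.IsNilpotent G := by
        have h1 : Group.IsNilpotent (⊤ : Subgroup G) := e ▸ hFnil
        exact Group.nilpotent_of_mulEquiv Subgroup.topEquiv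
      exact hne (derivedSeries_three_of_isNilpotent hab.le h)
    -- it is a `q`-group
    obtain ⟨q, hq, hFq⟩ : ∃ q, q.Prime ∧ IsPGroup q F := by
      have hSn : ∀ (r : ℕ) [Fact r.Prime] (S : Sylow r F),
          ((S : Subgroup F).map F.subtype).Normal := by
        intro r hr S
        haveI : (S : Subgroup F).Normal :=
          ((Group.isNilpotent_of_finite_tfae (G := F)).out 0 3 rfl rfl).mp hFnil r hr S
        haveI := S.characteristic_of_normal this
        infer_instance
      by_cases hF1 : Nat.card F = 1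
      · exact ⟨2, Nat.prime_two, IsPGroup.of_card (n := 0) (by rw [hF1, pow_zero])⟩
      obtain ⟨q, hq, hqd⟩ := Nat.exists_prime_and_dvd hF1
      refine ⟨q, hq, ?_⟩
      haveI := Fact.mk hq
      by_contra hnot
      obtain ⟨r, hr, hrd, hrq⟩ : ∃ r : ℕ, r.Prime ∧ r ∣ Nat.card F ∧ r ≠ q := by
        by_contra hall
        push Not at hall
        exact hnot (IsPGroup.of_card (n := (Nat.card F).primeFactorsList.length)
          (Nat.eq_prime_pow_of_unique_prime_dvd Nat.card_pos.ne' fun {d} hd hdd => hall d hd hdd))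
      haveI := Fact.mk hr
      obtain ⟨S⟩ : Nonempty (Sylow q F) := inferInstance
      obtain ⟨R⟩ : Nonempty (Sylow r F) := inferInstance
      haveI := hSn q S
      haveI := hSn r R
      have hS0 : (S : Subgroup F).map F.subtype ≠ ⊥ := fun e =>
        S.ne_bot_of_dvd_card hqd
          ((Subgroup.map_eq_bot_iff_of_injective _ F.subtype_injective).mp e)
      have hR0 : (R : Subgroup F).map F.subtype ≠ ⊥ := fun e =>
        R.ne_bot_of_dvd_card hrd
          ((Subgroup.map_eq_bot_iff_of_injective _ F.subtype_injective).mp e)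
      have hdis := IsPGroup.disjoint_of_ne q r (Ne.symm hrq) _ _ (S.isPGroup'.map F.subtype)
        (R.isPGroup'.map F.subtype)
      exact hne (le_bot_iff.mp ((le_inf (hquot _ hS0) (hquot _ hR0)).trans hdis.le_bot))
    haveI := Fact.mk hq
    -- characters trivial on it have degree different from `b`
    have hF : ∀ χ : Cfsg.IrrCharacter G, (∀ x ∈ F, (χ : G → ℂ) x = (χ : G → ℂ) 1) →
        Cfsg.charDegree (χ : G → ℂ) ≠ b := by
      intro χ hker hχ
      have hmax : ∀ ψ : Cfsg.IrrCharacter G,
          Cfsg.charDegree (ψ : G → ℂ) ≤ Cfsg.charDegree (χ : G → ℂ) := by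
        intro ψ
        rcases h ψ with h' | h' | h' <;> omega
      set K := CharCore.charKernel (CharCore.irr_isCharacter χ) with hK
      have hKF : K = F := le_antisymm (fun g hg => mem_fitting_of_kernel χ hmax hg) hker
      haveI := hsolv
      obtain ⟨ψ, hlt, -⟩ := exists_larger_of_eq χ K (fun _ => Iff.rfl) hKF inferInstance
        (hKF ▸ hFtop)
      exact absurd (hmax ψ) (not_le.mpr hlt)
    have hquotdeg := degree_quotient (a := a) h hF
    have h2F : derivedSeries G 2 ≤ F := derivedSeries_le_of_quotient F 2 (derivedSeries_two hquotdeg)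
    -- not both degrees are divisible by `q`
    have hg : ¬ (q ∣ a ∧ q ∣ b) := by
      rintro ⟨hqa, hqb⟩
      obtain ⟨N, hNn, hNq, k, hk⟩ := Cfsg.Agent.S4456.result (G := G) q hq fun χ hχ => by
        rcases (h χ).resolve_left hχ with h' | h' <;> rw [h'] <;> assumption
      by_cases hN : N = ⊥
      · rw [hN, Subgroup.index_bot] at hk
        have hG : IsPGroup q G := IsPGroup.of_card hk
        exact hFtop (top_le_iff.mp (Fitting.le_fitting inferInstance
          (hG.to_subgroup ⊤).isNilpotent))
      · obtain ⟨j, hj⟩ := IsPGroup.iff_card.mp hFq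
        have hinf : N ⊓ F = ⊥ := Subgroup.inf_eq_bot_of_coprime (by
          rw [hj]
          exact Nat.Coprime.pow_right j hNq)
        refine hne (le_bot_iff.mp ?_)
        rw [← hinf]
        exact le_inf (hquot N hN) ((derivedSeries_antitone G (by norm_num : 2 ≤ 3)).trans h2F)
    by_cases hle : commutator G ≤ F
    · exact hne (derivedSeries_three_of_commutator_le hFq h hg hle)
    have hab' : ∀ x ∈ commutator (G ⧸ F), ∀ y ∈ commutator (G ⧸ F), x * y = y * x := by
      intro x hx y hy
      have h1 : derivedSeries (G ⧸ F) 2 = ⊥ := derivedSeries_two hquotdeg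
      rw [derivedSeries_succ, derivedSeries_one, eq_bot_iff, Subgroup.commutator_le] at h1
      have := h1 x hx y hy
      rwa [Subgroup.mem_bot, commutatorElement_eq_one_iff_mul_comm] at this
    -- the Fitting subgroup is nonabelian
    have := Fintype.ofFinite F
    have hψ : ∃ ψ : Cfsg.IrrCharacter F, Cfsg.charDegree (ψ : F → ℂ) ≠ 1 := by
      by_contra hall
      push Not at hall
      refine hne (le_bot_iff.mp ?_)
      rw [derivedSeries_succ, Subgroup.commutator_le]
      intro x hx y hy
      rw [Subgroup.mem_bot, commutatorElement_eq_one_iff_mul_comm]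
      exact congrArg Subtype.val (commute_of_degree_one hall ⟨x, h2F hx⟩ ⟨y, h2F hy⟩)
    have hqab : q ∣ a ∨ q ∣ b := by
      obtain ⟨ψ, hψ1⟩ := hψ
      obtain ⟨d, -, hd, hdvd, -⟩ := CharDeep.TIFrob.exists_degree_dvd ψ
      obtain ⟨j, hj⟩ := IsPGroup.iff_card.mp hFq
      rw [hj] at hdvd
      obtain ⟨i, -, hi⟩ := (Nat.dvd_prime_pow hq).mp hdvd
      rw [degree_of_eq hd] at hψ1
      have hqd : q ∣ d := by
        rcases Nat.eq_zero_or_pos i with h0 | h0
        · rw [hi, h0, pow_zero] at hψ1
          exact absurd rfl hψ1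
        · exact hi ▸ dvd_pow_self q h0.ne'
      obtain ⟨χ, hχ⟩ := CharCore.exists_over F ψ
      have hdd := hqd.trans (CharDeep.Ext.dvd_degree_of_constituent F ψ.2 χ.2 hd (apply_one χ) hχ)
      rcases h χ with h' | h' | h' <;> rw [h'] at hdd
      · exact absurd hdd hq.not_dvd_one
      · exact Or.inl hdd
      · exact Or.inr hdd
    have hqa : q ∣ a := by
      rcases hqab with hqa | hqb
      · exact hqa
      · exact dvd_left hFq h hF hsolv hle hab hqb
    exact not_dvd_left hFq h hF hab' hle hab (fun hqb => hg ⟨hqa, hqb⟩) hψ hqa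

/-- At most three degrees: the third derived subgroup is trivial. -/
theorem derivedSeries_three {G : Type u} [Group G] [Finite G] {a b : ℕ} (h : Deg3 G a b) :
    derivedSeries G 3 = ⊥ := derivedSeries_three_aux _ G le_rfl a b h

/-- Three degrees give the bound on the degrees. -/
theorem exists_deg3 {G : Type u} [Group G] [Finite G]
    (hcd : Nat.card {n : ℕ // ∃ χ : Cfsg.IrrCharacter G, Cfsg.charDegree (χ : G → ℂ) = n} = 3) :
    ∃ a b : ℕ, Deg3 G a b := by
  classical
  let S : Set ℕ := {n | ∃ χ : Cfsg.IrrCharacter G, Cfsg.charDegree (χ : G → ℂ) = n}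
  have h3 : S.ncard = 3 := by rw [← Nat.card_coe_set_eq]; exact hcd
  have h1 : 1 ∈ S := one_mem_degSet G
  have h2 : (S \ {1}).ncard = 2 := by rw [Set.ncard_diff_singleton_of_mem h1, h3]
  obtain ⟨a, b, -, hab⟩ := Set.ncard_eq_two.mp h2
  refine ⟨a, b, fun χ => ?_⟩
  by_cases h : Cfsg.charDegree (χ : G → ℂ) = 1
  · exact Or.inl h
  · have h4 : Cfsg.charDegree (χ : G → ℂ) ∈ S \ {1} := ⟨⟨χ, rfl⟩, h⟩
    rw [hab] at h4
    exact Or.inr h4

end Cfsg.Agent.BC87.ThreeDeg
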