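import Cfsg.Agent.BC87.ThreeDeg.Solvable
import Cfsg.Agent.CharDeep.Deg.ItoSolvable
import Cfsg.Agent.Lib.Coprime.Action
import Cfsg.Agent.Lib.PGroup.Basic

/-!
# Fitting subgroup a `q`-group: the prime `q` divides the smaller degree
-/

namespace Cfsg.Agent.BC87.ThreeDeg

open CharDeep.Deg
open scoped commutatorElement

universe u

variable {G : Type u} [Group G] [Finite G] {a b q : ℕ} [hq : Fact q.Prime]
  [(Cfsg.fittingSubgroup G).Normal] (hFq : IsPGroup q (Cfsg.fittingSubgroup G))

include hFq in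
/-- An abelian normal subgroup above the Fitting subgroup has order prime to `q`. -/
theorem not_dvd_of_normal (D : Subgroup (G ⧸ Cfsg.fittingSubgroup G)) [hD : D.Normal]
    (hab : ∀ x ∈ D, ∀ y ∈ D, x * y = y * x) : ¬ q ∣ Nat.card D := by
  intro hdvd
  let P : Subgroup (G ⧸ Cfsg.fittingSubgroup G) :=
    { carrier := {x | x ∈ D ∧ ∃ k : ℕ, x ^ q ^ k = 1}
      one_mem' := ⟨one_mem D, 0, one_pow _⟩
      mul_mem' := by
        rintro x y ⟨hx, i, hi⟩ ⟨hy, j, hj⟩
        refine ⟨mul_mem hx hy, i + j, ?_⟩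
        rw [(show Commute x y from hab x hx y hy).mul_pow, pow_add, pow_mul, hi, one_pow, one_mul,
          mul_comm, pow_mul, hj, one_pow]
      inv_mem' := by
        rintro x ⟨hx, i, hi⟩
        exact ⟨inv_mem hx, i, by rw [inv_pow, hi, inv_one]⟩ }
  have hPn : P.Normal := ⟨fun x ⟨hx, i, hi⟩ g =>
    ⟨hD.conj_mem x hx g, i, by rw [conj_pow, hi, mul_one, mul_inv_cancel]⟩⟩
  have hPq : IsPGroup q P := fun x => ⟨x.2.2.choose, Subtype.ext x.2.2.choose_spec⟩
  have hcomap : IsPGroup q (P.comap (QuotientGroup.mk' (Cfsg.fittingSubgroup G))) :=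
    hPq.comap_of_ker_isPGroup _ (by rwa [QuotientGroup.ker_mk'])
  have hle : P.comap (QuotientGroup.mk' (Cfsg.fittingSubgroup G)) ≤ Cfsg.fittingSubgroup G :=
    Fitting.le_fitting (hPn.comap _) hcomap.isNilpotent
  obtain ⟨x, hx⟩ := exists_prime_orderOf_dvd_card' (G := D) q hdvd
  obtain ⟨g, hg⟩ := QuotientGroup.mk'_surjective _ (x : G ⧸ Cfsg.fittingSubgroup G)
  have hxP : (x : G ⧸ Cfsg.fittingSubgroup G) ∈ P := ⟨x.2, 1, by
    rw [pow_one, ← hx, ← Subgroup.orderOf_coe]
    exact pow_orderOf_eq_one _⟩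
  have h1 : g ∈ Cfsg.fittingSubgroup G := hle (by rw [Subgroup.mem_comap, hg]; exact hxP)
  have h2 : x = 1 := Subtype.ext (by
    rw [← hg, OneMemClass.coe_one, QuotientGroup.mk'_apply]
    exact (QuotientGroup.eq_one_iff g).mpr h1)
  rw [h2, orderOf_one] at hx
  exact hq.out.ne_one hx.symm

omit [Finite G] [(Cfsg.fittingSubgroup G).Normal] in
theorem derivedSeries_le_map {H : Subgroup G} (hle : commutator G ≤ H) :
    ∀ j, derivedSeries G (j + 1) ≤ (derivedSeries H j).map H.subtype
  | 0 => by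
    rw [derivedSeries_zero, ← MonoidHom.range_eq_map, Subgroup.range_subtype, derivedSeries_one]
    exact hle
  | j + 1 => by
    rw [derivedSeries_succ G (j + 1), derivedSeries_succ H j, Subgroup.map_commutator]
    exact Subgroup.commutator_mono (derivedSeries_le_map hle j) (derivedSeries_le_map hle j)

include hFq in
/-- If the quotient by the Fitting subgroup is abelian and `q` divides one degree only. -/
theorem derivedSeries_three_of_commutator_le (h : Deg3 G a b) (hg : ¬ (q ∣ a ∧ q ∣ b))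
    (hle : commutator G ≤ Cfsg.fittingSubgroup G) : derivedSeries G 3 = ⊥ := by
  classical
  have := Fintype.ofFinite G
  set F := Cfsg.fittingSubgroup G with hF
  have := Fintype.ofFinite F
  have hab : ∀ x y : G ⧸ F, x * y = y * x := by
    intro x y
    obtain ⟨u, rfl⟩ := QuotientGroup.mk'_surjective F x
    obtain ⟨v, rfl⟩ := QuotientGroup.mk'_surjective F y
    rw [← commutatorElement_eq_one_iff_mul_comm, ← map_commutatorElement,
      QuotientGroup.mk'_apply, QuotientGroup.eq_one_iff]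
    exact hle (Subgroup.commutator_mem_commutator (Subgroup.mem_top u) (Subgroup.mem_top v))
  have hidx : ¬ q ∣ F.index := by
    rw [Subgroup.index_eq_card, ← Subgroup.card_top (G := G ⧸ F)]
    exact not_dvd_of_normal hFq ⊤ fun x _ y _ => hab x y
  obtain ⟨c, hc⟩ : ∃ c : ℕ, ∀ d : ℕ, (d = 1 ∨ d = a ∨ d = b) → q ∣ d → d = c := by
    refine ⟨if q ∣ a then a else b, fun d hd hqd => ?_⟩
    rcases hd with rfl | rfl | rfl
    · exact absurd hqd hq.out.not_dvd_one
    · rw [if_pos hqd]
    · rw [if_neg fun e => hg ⟨e, hqd⟩]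
  have h2 : derivedSeries F 2 = ⊥ := by
    refine derivedSeries_two (m := ordProj[q] c) fun θ => ?_
    obtain ⟨n, hn0, hn, hndvd, -⟩ := CharDeep.TIFrob.exists_degree_dvd θ
    obtain ⟨k, hk⟩ := IsPGroup.iff_card.mp hFq
    rw [hk] at hndvd
    obtain ⟨i, -, hi⟩ := (Nat.dvd_prime_pow hq.out).mp hndvd
    rcases Nat.eq_zero_or_pos i with h0 | h0
    · left
      rw [degree_of_eq hn, hi, h0, pow_zero]
    right
    obtain ⟨χ, hχ⟩ := CharCore.exists_over F θ
    obtain ⟨hdvd, hquot⟩ := CharB.degree_dvd F χ.2 θ.2 hχ (apply_one χ) (apply_one θ)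
    rw [degree_of_eq hn, hi] at hdvd hquot
    have hcq : ¬ q ∣ Cfsg.charDegree (χ : G → ℂ) / q ^ i := fun e => hidx (e.trans hquot)
    obtain ⟨r, hr⟩ := hdvd
    rw [hr, Nat.mul_div_cancel_left _ (pow_pos hq.out.pos i)] at hcq
    have hcd : Cfsg.charDegree (χ : G → ℂ) = c :=
      hc _ (h χ) (hr ▸ dvd_mul_of_dvd_left (dvd_pow_self q h0.ne') r)
    rw [degree_of_eq hn, hi, ← hcd, hr, Nat.factorization_mul (pow_ne_zero _ hq.out.ne_zero)
        (fun e => hcq (by rw [e]; exact dvd_zero q)), Finsupp.add_apply, hq.out.factorization_pow,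
      Finsupp.single_eq_same, Nat.factorization_eq_zero_of_not_dvd hcq, add_zero]
  have h3 : derivedSeries G 3 ≤ (derivedSeries F 2).map F.subtype := derivedSeries_le_map hle 2
  rw [h2, Subgroup.map_bot] at h3
  exact le_bot_iff.mp h3

variable [Fintype G] (h : Deg3 G a b)
  (hF : ∀ χ : Cfsg.IrrCharacter G, (∀ x ∈ Cfsg.fittingSubgroup G,
    (χ : G → ℂ) x = (χ : G → ℂ) 1) → Cfsg.charDegree (χ : G → ℂ) ≠ b)
  (hsolv : Group.IsSolvable G) (hnle : ¬ commutator G ≤ Cfsg.fittingSubgroup G)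

omit [Fintype G] in
include h hF in
theorem degree_quotient (θ : Cfsg.IrrCharacter (G ⧸ Cfsg.fittingSubgroup G)) :
    Cfsg.charDegree (θ : G ⧸ Cfsg.fittingSubgroup G → ℂ) = 1 ∨
      Cfsg.charDegree (θ : G ⧸ Cfsg.fittingSubgroup G → ℂ) = a := by
  obtain ⟨χ, hχ, hval⟩ := exists_inflate _ θ
  rw [← hχ]
  refine (h χ).imp_right fun h' => h'.resolve_right (hF χ fun x hx => ?_)
  rw [hval, hval, map_one, QuotientGroup.mk'_apply, (QuotientGroup.eq_one_iff x).mpr hx]

include hFq h hF hsolv hnle in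
/-- The prime `q` divides `a`. -/
theorem dvd_left (hab : a < b) (hqb : q ∣ b) : q ∣ a := by
  classical
  by_contra hqa
  set F := Cfsg.fittingSubgroup G with hFdef
  have := Fintype.ofFinite F
  haveI := hsolv
  have hidx : ¬ q ∣ F.index := by
    obtain ⟨P, hPn, hPab, -, hPi⟩ := exists_abelian_sylow_aux q (Nat.card (G ⧸ F)) (G := G ⧸ F)
      le_rfl inferInstance fun θ => by
        rcases degree_quotient h hF θ with e | e <;> rw [e]
        · exact hq.out.not_dvd_one
        · exact hqa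
    rw [Subgroup.index_eq_card, ← P.index_mul_card]
    exact fun e => (hq.out.dvd_mul.mp e).elim hPi (not_dvd_of_normal hFq P hPab)
  obtain ⟨k, hk⟩ := IsPGroup.iff_card.mp hFq
  have hfix : ∀ l : F →* ℂˣ, commutator G ≤ CharDeep.Ext.inertia F fun x : F => (l x : ℂ) := by
    intro l
    set T := CharDeep.Ext.inertia F fun x : F => (l x : ℂ) with hT
    by_cases hTtop : T = ⊤
    · rw [hTtop]; exact le_top
    have := Fintype.ofFinite T
    have hFT : F ≤ T := CharDeep.Ext.le_inertia F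
      (CharCore.irr_isClassFunction (⟨_, CharCore.isIrrCharacter_hom l⟩ : Cfsg.IrrCharacter F))
    obtain ⟨μ, ⟨hμ, -⟩, -⟩ := CharDeep.Ext.exists_unique_extend_coprime (N := F.subgroupOf T)
      (l.comp (Subgroup.subgroupOfEquivOfLe hFT).toMonoidHom)
      (fun g n => Units.ext (congrFun g.2 (Subgroup.subgroupOfEquivOfLe hFT n)))
      (Nat.Coprime.coprime_dvd_right (k := _) (orderOf_dvd_of_pow_eq_one (n := q ^ k) (by
          refine MonoidHom.ext fun n => ?_
          rw [MonoidHom.pow_apply, MonoidHom.comp_apply, ← map_pow, ← hk, pow_card_eq_one',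
            map_one, MonoidHom.one_apply]))
        (Nat.Coprime.pow_right k (Nat.Coprime.coprime_dvd_left
          (Dvd.intro _ (Subgroup.relIndex_mul_index hFT))
          ((hq.out.coprime_iff_not_dvd.mpr hidx).symm))))
    let μi : Cfsg.IrrCharacter T := ⟨_, CharCore.isIrrCharacter_hom μ⟩
    obtain ⟨χ, hχ1, hχ2⟩ := exists_over_subgroup T μi
    have hμl : Cfsg.classInner (fun x : F => (μi : T → ℂ) ⟨x, hFT x.2⟩) (fun x : F => (l x : ℂ)) ≠ 0 := by
      have e : (fun x : F => (μi : T → ℂ) ⟨x, hFT x.2⟩) = fun x : F => (l x : ℂ) := funext fun x =>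
        congrArg Units.val (hμ ⟨⟨x, hFT x.2⟩, Subgroup.mem_subgroupOf.mpr x.2⟩)
      rw [e, show Cfsg.classInner (fun x : F => (l x : ℂ)) (fun x : F => (l x : ℂ)) = 1 from
        CharCore.classInner_irr_self ⟨_, CharCore.isIrrCharacter_hom l⟩]
      exact one_ne_zero
    obtain ⟨φ, hφ, hind, -⟩ := CharDeep.Ext.exists_inertia_induced F (CharCore.isIrrCharacter_hom l)
      T (fun g => funext_iff) hFT χ.2
      (inner_ne_zero_trans F T hFT (CharCore.irr_isCharacter χ) μi
        ⟨_, CharCore.isIrrCharacter_hom l⟩ hχ1 hμl)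
    have hdeg : Cfsg.charDegree (χ : G → ℂ) = T.index * Cfsg.charDegree φ := degree_of_eq (by
      rw [← hind, CharInd.indFun_apply_one, Nat.cast_mul]
      exact congrArg _ (apply_one ⟨φ, hφ⟩))
    have hle := degree_le_of_constituent
      (CharInd.isCharacter_indFun T (CharCore.irr_isCharacter μi)) (d := T.index)
      (by rw [CharInd.indFun_apply_one]; simp [μi]) χ hχ2
    have hge : T.index ≤ Cfsg.charDegree (χ : G → ℂ) :=
      hdeg ▸ Nat.le_mul_of_pos_right _ (degree_pos (⟨φ, hφ⟩ : Cfsg.IrrCharacter T))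
    have h1 : T.index ≠ 1 := fun e => hTtop (Subgroup.index_eq_one.mp e)
    have hqT : ¬ q ∣ T.index := fun e => hidx (e.trans (Subgroup.index_dvd_of_le hFT))
    have hTa : T.index = a := by
      rcases h χ with h' | h' | h'
      · have := Subgroup.index_ne_zero_of_finite (H := T)
        omega
      · omega
      · exact absurd (show q ∣ T.index by rw [show T.index = b by omega]; exact hqb) hqT
    refine commutator_le_of_index_le T fun ψ => ?_
    rcases h ψ with h' | h' | h'
    · exact Or.inl h'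
    · exact Or.inr (by omega)
    · exact Or.inr (by omega)
  obtain ⟨x, hx, hxF⟩ := SetLike.not_le_iff_exists.mp hnle
  set m := q ^ (Nat.card G).factorization q with hm
  let A := Subgroup.zpowers (x ^ m)
  have hAq : Nat.Coprime (Nat.card A) q := by
    refine (Nat.Prime.coprime_iff_not_dvd hq.out).mpr (fun e => ?_) |>.symm
    have h1 : orderOf (x ^ m) ∣ ordCompl[q] (Nat.card G) := orderOf_dvd_of_pow_eq_one (by
      rw [← pow_mul, hm, Nat.ordProj_mul_ordCompl_eq_self, pow_card_eq_one'])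
    rw [Nat.card_zpowers] at e
    exact Nat.not_dvd_ordCompl hq.out Nat.card_pos.ne' (e.trans h1)
  have hcent : A ≤ Subgroup.centralizer (F : Set G) := by
    obtain ⟨i, hi⟩ := IsPGroup.iff_card.mp (hFq.to_subgroup (frattini F))
    refine Coprime.le_centralizer_of_frattini A F
      (by rw [Subgroup.normalizer_eq_top]; exact le_top) (hi ▸ Nat.Coprime.pow_right i hAq)
      fun g hg f hf => ?_
    have hgG : g ∈ commutator G := (Subgroup.zpowers_le.mpr (pow_mem hx m) : A ≤ _) hg
    refine ⟨MulAut.conjNormal g ⟨f, hf⟩ * (⟨f, hf⟩ : F)⁻¹,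
      PGroup.commutator_le_frattini hFq (mem_commutator_of_forall_hom fun l => ?_), ?_⟩
    · rw [map_mul, map_inv, mul_inv_eq_one]
      exact Units.ext ((congrArg (fun z : F => (l z : ℂ)) (Subtype.ext
        (MulAut.conjNormal_apply g ⟨f, hf⟩))).trans (congrFun (hfix l hgG) ⟨f, hf⟩))
    · rw [Subgroup.coe_subtype, Subgroup.coe_mul, MulAut.conjNormal_apply, InvMemClass.coe_inv]
  have hxm : x ^ m ∈ F := Fitting.centralizer_fitting_le (hcent (Subgroup.mem_zpowers _))
  apply hxF
  have hcop : Nat.Coprime m F.index :=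
    Nat.Coprime.pow_left _ (hq.out.coprime_iff_not_dvd.mpr hidx)
  rw [← QuotientGroup.eq_one_iff] at hxm ⊢
  rw [QuotientGroup.mk_pow] at hxm
  have h2 : ((x : G ⧸ F)) ^ F.index = 1 := by
    rw [Subgroup.index_eq_card, pow_card_eq_one']
  have h3 := pow_gcd_eq_one.mpr ⟨hxm, h2⟩
  rwa [hcop.gcd_eq_one, pow_one] at h3

end Cfsg.Agent.BC87.ThreeDeg
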