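import Cfsg.Agent.BC87.ThreeDeg.Fixed

/-!
# Fitting subgroup a `q`-group with `q` dividing only the smaller degree
-/

namespace Cfsg.Agent.BC87.ThreeDeg

open CharDeep.Deg
open scoped commutatorElement

universe u

variable {G : Type u} [Group G] [Fintype G] {a b q : ℕ} [hq : Fact q.Prime]
  [(Cfsg.fittingSubgroup G).Normal] (hFq : IsPGroup q (Cfsg.fittingSubgroup G))
  (h : Deg3 G a b)
  (hF : ∀ χ : Cfsg.IrrCharacter G, (∀ x ∈ Cfsg.fittingSubgroup G,
    (χ : G → ℂ) x = (χ : G → ℂ) 1) → Cfsg.charDegree (χ : G → ℂ) ≠ b)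
  (hab' : ∀ x ∈ commutator (G ⧸ Cfsg.fittingSubgroup G), ∀ y ∈ commutator (G ⧸ Cfsg.fittingSubgroup G),
    x * y = y * x)
  (hnle : ¬ commutator G ≤ Cfsg.fittingSubgroup G)

include hFq h hF hab' hnle in
/-- Some linear character of the derived subgroup of the quotient is not invariant. -/
theorem exists_moved (hqa : q ∣ a) :
    ∃ l : commutator (G ⧸ Cfsg.fittingSubgroup G) →* ℂˣ, stab _ l ≠ ⊤ := by
  classical
  by_contra hall
  push Not at hall
  set D := commutator (G ⧸ Cfsg.fittingSubgroup G)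
  have hcent : D ≤ Subgroup.center (G ⧸ Cfsg.fittingSubgroup G) := by
    intro x hx
    rw [Subgroup.mem_center_iff]
    intro g
    have := Fintype.ofFinite (G ⧸ Cfsg.fittingSubgroup G)
    have h1 := congrArg Subtype.val (eq_of_forall_hom D hab'
      (x := MulAut.conjNormal g ⟨x, hx⟩) (y := ⟨x, hx⟩)
      fun l => mem_stab.mp (hall l ▸ Subgroup.mem_top g : g ∈ stab D l) _)
    rw [MulAut.conjNormal_apply, mul_inv_eq_iff_eq_mul] at h1
    exact h1
  haveI : Group.IsNilpotent (G ⧸ Cfsg.fittingSubgroup G) := by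
    haveI : Group.IsNilpotent ((G ⧸ Cfsg.fittingSubgroup G) ⧸ D) :=
      Subgroup.nilpotent_iff_lowerCentralSeries.mpr
        ⟨1, Subgroup.lowerCentralSeries_one_eq_bot_iff.mpr
          ⟨⟨fun x y => mul_comm (G := Abelianization (G ⧸ Cfsg.fittingSubgroup G)) x y⟩⟩⟩
    exact isNilpotent_of_ker_le_center (QuotientGroup.mk' D) (by rwa [QuotientGroup.ker_mk'])
  obtain ⟨θ, hθ⟩ : ∃ θ : Cfsg.IrrCharacter (G ⧸ Cfsg.fittingSubgroup G),
      Cfsg.charDegree (θ : G ⧸ Cfsg.fittingSubgroup G → ℂ) ≠ 1 := by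
    by_contra hlin
    push Not at hlin
    apply hnle
    rw [_root_.commutator_def, Subgroup.commutator_le]
    intro x _ y _
    rw [← QuotientGroup.eq_one_iff, ← QuotientGroup.mk'_apply, map_commutatorElement,
      commutatorElement_eq_one_iff_mul_comm]
    exact commute_of_degree_one hlin _ _
  obtain ⟨d, -, hd, hdvd, -⟩ := CharDeep.TIFrob.exists_degree_dvd θ
  rw [← degree_of_eq hd, (degree_quotient h hF θ).resolve_left hθ] at hdvd
  obtain ⟨P⟩ : Nonempty (Sylow q (G ⧸ Cfsg.fittingSubgroup G)) := inferInstance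
  have hPn : (P : Subgroup (G ⧸ Cfsg.fittingSubgroup G)).Normal :=
    ((Group.isNilpotent_of_finite_tfae (G := G ⧸ Cfsg.fittingSubgroup G)).out 0 3 rfl rfl).mp
      inferInstance q hq P
  have hle : (P : Subgroup (G ⧸ Cfsg.fittingSubgroup G)).comap (QuotientGroup.mk' _) ≤
      Cfsg.fittingSubgroup G :=
    Fitting.le_fitting (hPn.comap _)
      (P.isPGroup'.comap_of_ker_isPGroup _ (by rwa [QuotientGroup.ker_mk'])).isNilpotent
  have hPbot : (P : Subgroup (G ⧸ Cfsg.fittingSubgroup G)) = ⊥ := by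
    rw [← Subgroup.map_comap_eq_self_of_surjective (QuotientGroup.mk'_surjective _)
      (P : Subgroup (G ⧸ Cfsg.fittingSubgroup G)), Subgroup.map_eq_bot_iff, QuotientGroup.ker_mk']
    exact hle
  have h2 := P.not_dvd_index' (fun e => Subgroup.index_ne_zero_of_finite e)
  rw [hPbot, Subgroup.index_bot] at h2
  exact h2 (hqa.trans hdvd)

include hFq h hF hab' in
/-- For a moved linear character, `a` divides its index times a number prime to `q`. -/
theorem dvd_index_stab (l : commutator (G ⧸ Cfsg.fittingSubgroup G) →* ℂˣ)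
    (hl : stab _ l ≠ ⊤) :
    ∃ m, ¬ q ∣ m ∧ a ∣ m * (stab _ l).index := by
  classical
  have := Fintype.ofFinite (G ⧸ Cfsg.fittingSubgroup G)
  have := Fintype.ofFinite (commutator (G ⧸ Cfsg.fittingSubgroup G))
  let S := stab (commutator (G ⧸ Cfsg.fittingSubgroup G)) l
  obtain ⟨P⟩ : Nonempty (Sylow q S) := inferInstance
  let Q := (P : Subgroup S).map S.subtype
  have hQS : Q ≤ S := Subgroup.map_subtype_le _
  let X := (commutator (G ⧸ Cfsg.fittingSubgroup G)) ⊔ Q
  have hDS : (commutator (G ⧸ Cfsg.fittingSubgroup G)) ≤ S := le_stab (commutator (G ⧸ Cfsg.fittingSubgroup G)) hab' l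
  have hXS : X ≤ S := sup_le hDS hQS
  have := Fintype.ofFinite X
  have hDX : (commutator (G ⧸ Cfsg.fittingSubgroup G)) ≤ X := le_sup_left
  have hqD : ¬ q ∣ Nat.card (commutator (G ⧸ Cfsg.fittingSubgroup G)) := not_dvd_of_normal hFq (commutator (G ⧸ Cfsg.fittingSubgroup G)) hab'
  obtain ⟨j, hj⟩ := IsPGroup.iff_card.mp (P.isPGroup'.map S.subtype : IsPGroup q Q)
  have hrel : (commutator (G ⧸ Cfsg.fittingSubgroup G)).relIndex X ∣ q ^ j := by
    rw [show (commutator (G ⧸ Cfsg.fittingSubgroup G)).relIndex X = (commutator (G ⧸ Cfsg.fittingSubgroup G)).relIndex Q by rw [show X = Q ⊔ (commutator (G ⧸ Cfsg.fittingSubgroup G)) from sup_comm _ _,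
      Subgroup.relIndex_sup_right], ← hj]
    exact Subgroup.relIndex_dvd_card _ _
  obtain ⟨μ, ⟨hμ, -⟩, -⟩ := CharDeep.Ext.exists_unique_extend_coprime (N := (commutator (G ⧸ Cfsg.fittingSubgroup G)).subgroupOf X)
    (l.comp (Subgroup.subgroupOfEquivOfLe hDX).toMonoidHom)
    (fun g n => by
      have h1 := mem_stab.mp (hXS g.2) (Subgroup.subgroupOfEquivOfLe hDX n)
      simp only [MonoidHom.comp_apply, MulEquiv.coe_toMonoidHom]
      rw [← h1]
      refine congrArg l (Subtype.ext ?_)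
      rw [MulAut.conjNormal_apply]
      rfl)
    (Nat.Coprime.coprime_dvd_right (k := _) (orderOf_dvd_of_pow_eq_one (n := Nat.card (commutator (G ⧸ Cfsg.fittingSubgroup G))) (by
        refine MonoidHom.ext fun n => ?_
        rw [MonoidHom.pow_apply, MonoidHom.comp_apply, ← map_pow, pow_card_eq_one', map_one,
          MonoidHom.one_apply]))
      (Nat.Coprime.coprime_dvd_left hrel
        (Nat.Coprime.pow_left j (hq.out.coprime_iff_not_dvd.mpr hqD))))
  refine ⟨X.relIndex S, fun e => ?_, ?_⟩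
  · refine P.not_dvd_index' (fun e => Subgroup.index_ne_zero_of_finite e) ?_
    have h1 : X.relIndex S ∣ Q.relIndex S := Subgroup.relIndex_dvd_of_le_left S le_sup_right
    have h2 : Q.relIndex S = (P : Subgroup S).index := by
      rw [Subgroup.relIndex, Subgroup.subgroupOf,
        Subgroup.comap_map_eq_self_of_injective S.subtype_injective]
    exact h2 ▸ e.trans h1
  rw [Subgroup.relIndex_mul_index hXS]
  have hf : Cfsg.IsCharacter (G ⧸ Cfsg.fittingSubgroup G)
      (Cfsg.indFun X fun x => (μ x : ℂ)) :=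
    CharInd.isCharacter_indFun X (CharCore.IsIrrCharacter.isCharacter (CharCore.isIrrCharacter_hom μ))
  obtain ⟨m, -, hmi, hsum⟩ := sum_degree hf (n := X.index) (by rw [CharInd.indFun_apply_one]; simp)
  rw [hsum]
  refine Finset.dvd_sum fun θ _ => ?_
  by_cases hm0 : m θ = 0
  · rw [hm0, zero_mul]; exact dvd_zero _
  refine dvd_mul_of_dvd_right (dvd_of_eq ?_) _
  refine ((degree_quotient h hF θ).resolve_left fun h1 => hl ?_).symm
  obtain ⟨L, hL⟩ := CharCore.IsCharacter.exists_hom_of_degree_one (CharCore.irr_isCharacter θ)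
    (by rw [apply_one θ, h1, Nat.cast_one])
  have hne : Cfsg.classInner (fun x : X => (θ : G ⧸ Cfsg.fittingSubgroup G → ℂ) x) (fun x => (μ x : ℂ)) ≠ 0 := by
    intro h0
    apply hm0
    have := hmi θ
    rw [← CharCore.conj_classInner, CharInd.classInner_indFun_right X _
      (CharCore.irr_isClassFunction θ), h0, map_zero] at this
    exact_mod_cast this.symm
  have heq : L.comp X.subtype = μ := by
    by_contra hd
    refine hne ?_
    have h3 := CharCore.classInner_irr_of_ne
      (χ := (⟨_, CharCore.isIrrCharacter_hom (L.comp X.subtype)⟩ : Cfsg.IrrCharacter X))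
      (ψ := ⟨_, CharCore.isIrrCharacter_hom μ⟩)
      (fun e => hd (MonoidHom.ext fun x => Units.ext (congrFun (congrArg Subtype.val e) x)))
    rw [hL]
    exact h3
  have hlL : ∀ x : (commutator (G ⧸ Cfsg.fittingSubgroup G)), l x = L x := fun x => by
    have h3 := hμ ⟨⟨x, hDX x.2⟩, Subgroup.mem_subgroupOf.mpr x.2⟩
    rw [← heq] at h3
    exact h3.symm
  rw [eq_top_iff]
  intro g _
  rw [mem_stab]
  intro x
  rw [hlL, hlL, MulAut.conjNormal_apply, map_mul, map_mul, map_inv, mul_right_comm,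
    mul_inv_cancel, one_mul]

include hFq h hF hab' hnle in
/-- The final contradiction. -/
theorem not_dvd_left (hab : a < b) (hqb : ¬ q ∣ b)
    (hψ : ∃ ψ : Cfsg.IrrCharacter (Cfsg.fittingSubgroup G),
      Cfsg.charDegree (ψ : Cfsg.fittingSubgroup G → ℂ) ≠ 1) : ¬ q ∣ a := by
  classical
  intro hqa
  set F := Cfsg.fittingSubgroup G with hFdef
  obtain ⟨ψ, hψ1⟩ := hψ
  set D := commutator (G ⧸ F) with hDdef
  obtain ⟨l, hl⟩ := exists_moved hFq h hF hab' hnle hqa
  obtain ⟨m, hm, ham⟩ := dvd_index_stab hFq h hF hab' l hl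
  have := Fintype.ofFinite F
  have hqψ : q ∣ Cfsg.charDegree (ψ : F → ℂ) := by
    obtain ⟨n, -, hn, hndvd, -⟩ := CharDeep.TIFrob.exists_degree_dvd ψ
    obtain ⟨k, hk⟩ := IsPGroup.iff_card.mp hFq
    rw [hk] at hndvd
    obtain ⟨i, -, hi⟩ := (Nat.dvd_prime_pow hq.out).mp hndvd
    rw [degree_of_eq hn] at hψ1 ⊢
    rcases Nat.eq_zero_or_pos i with h0 | h0
    · rw [hi, h0, pow_zero] at hψ1
      exact absurd rfl hψ1
    · exact hi ▸ dvd_pow_self q h0.ne'
  have hover : ∀ χ : Cfsg.IrrCharacter G,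
      Cfsg.classInner (fun x : F => (χ : G → ℂ) x) (ψ : F → ℂ) ≠ 0 →
      Cfsg.charDegree (χ : G → ℂ) = a := by
    intro χ hχ
    have hd := hqψ.trans (CharDeep.Ext.dvd_degree_of_constituent F ψ.2 χ.2 (apply_one ψ)
      (apply_one χ) hχ)
    rcases h χ with h' | h' | h'
    · rw [h'] at hd; exact absurd hd hq.out.not_dvd_one
    · exact h'
    · rw [h'] at hd; exact absurd hd hqb
  set T := CharDeep.Ext.inertia F (ψ : F → ℂ) with hT
  have hFT : F ≤ T := CharDeep.Ext.le_inertia F (CharCore.irr_isClassFunction ψ)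
  have := Fintype.ofFinite T
  have hGT : commutator G ≤ T := by
    obtain ⟨χ, hχ⟩ := CharCore.exists_over F ψ
    obtain ⟨φ, hφ, hind, -⟩ := CharDeep.Ext.exists_inertia_induced F ψ.2 T
      (fun g => funext_iff) hFT χ.2 hχ
    have hdeg : Cfsg.charDegree (χ : G → ℂ) = T.index * Cfsg.charDegree φ := degree_of_eq (by
      rw [← hind, CharInd.indFun_apply_one, Nat.cast_mul]
      exact congrArg _ (apply_one ⟨φ, hφ⟩))
    have hTa : T.index ≤ a := by
      rw [← hover χ hχ, hdeg]
      exact Nat.le_mul_of_pos_right _ (degree_pos (⟨φ, hφ⟩ : Cfsg.IrrCharacter T))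
    refine commutator_le_of_index_le T fun θ => ?_
    rcases h θ with h' | h' | h'
    · exact Or.inl h'
    · exact Or.inr (by omega)
    · exact Or.inr (by omega)
  set U := D.comap (QuotientGroup.mk' F) with hU
  have hUn : U.Normal := Subgroup.Normal.comap inferInstance _
  have hUT : U ≤ T := by
    have e : D = (commutator G).map (QuotientGroup.mk' F) := by
      have h1 := map_derivedSeries_eq (QuotientGroup.mk'_surjective F) 1
      rw [derivedSeries_one, derivedSeries_one] at h1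
      exact h1.symm
    rw [hU, e, Subgroup.comap_map_eq, QuotientGroup.ker_mk']
    exact sup_le hGT hFT
  have hFU : F ≤ U := fun x hx => by
    show QuotientGroup.mk' F x ∈ D
    rw [QuotientGroup.mk'_apply, (QuotientGroup.eq_one_iff x).mpr hx]
    exact one_mem _
  have := Fintype.ofFinite U
  let N := F.subgroupOf U
  let e := Subgroup.subgroupOfEquivOfLe hFU
  have hϑ : Cfsg.IsIrrCharacter N (fun x => (ψ : F → ℂ) (e x)) :=
    CharCore.isIrrCharacter_comp_surjective ψ.2 e.toMonoidHom e.surjective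
  have := Fintype.ofFinite N
  obtain ⟨k, hk⟩ := IsPGroup.iff_card.mp hFq
  have hNc : Nat.card N = q ^ k := (Nat.card_congr e.toEquiv).trans hk
  obtain ⟨n, -, hn, hndvd, -⟩ :=
    CharDeep.TIFrob.exists_degree_dvd (⟨_, hϑ⟩ : Cfsg.IrrCharacter N)
  have hord : orderOf (CharDeep.Ext.detHom (fun x : N => (ψ : F → ℂ) (e x))) ∣ q ^ k :=
    orderOf_dvd_of_pow_eq_one (MonoidHom.ext fun x => by
      rw [MonoidHom.pow_apply, ← map_pow, ← hNc, pow_card_eq_one', map_one, MonoidHom.one_apply])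
  have hqD : ¬ q ∣ Nat.card D := not_dvd_of_normal hFq D hab'
  have hqN : Nat.Coprime q N.index := by
    let f : U →* D := (QuotientGroup.mk' F).subgroupComap D
    have hf : f.ker = N := by
      ext x
      rw [MonoidHom.mem_ker, Subgroup.mem_subgroupOf, ← QuotientGroup.eq_one_iff (N := F),
        Subtype.ext_iff]
      rfl
    have hcard : N.index = Nat.card D := by
      rw [← hf, Subgroup.index_ker]
      rw [MonoidHom.range_eq_top.mpr (MonoidHom.subgroupComap_surjective_of_surjective _ _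
        (QuotientGroup.mk'_surjective F)), Subgroup.card_top]
    rw [hcard]
    exact hq.out.coprime_iff_not_dvd.mpr hqD
  obtain ⟨ε, ⟨hεirr, hεres, hεdet⟩, -⟩ := CharDeep.Ext.exists_ext_detOrder (N := N) hϑ
    (fun g x => congrFun (hUT g.2) (e x)) hn (by
      rw [CharDeep.Ext.detOrder_eq]
      refine Nat.Coprime.coprime_dvd_right (mul_dvd_mul hord (hNc ▸ hndvd)) ?_
      rw [← pow_add]
      exact Nat.Coprime.pow_right _ hqN.symm)
  let δ : U →* ℂˣ := l.comp ((QuotientGroup.mk' F).subgroupComap D)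
  let τ : Cfsg.IrrCharacter U := ⟨fun x => (δ x : ℂ) * ε x, CharCore.isIrrCharacter_hom_mul δ hεirr⟩
  obtain ⟨χ, hχ⟩ := CharCore.exists_over U τ
  have hτres : ∀ x : F, (τ : U → ℂ) ⟨x, hFU x.2⟩ = (ψ : F → ℂ) x := fun x => by
    show (δ _ : ℂ) * ε _ = _
    have h1 : δ ⟨x, hFU x.2⟩ = 1 := by
      show l _ = 1
      convert map_one l
      exact Subtype.ext ((QuotientGroup.eq_one_iff (x : G)).mpr x.2)
    rw [h1, Units.val_one, one_mul]
    exact hεres ⟨⟨x, hFU x.2⟩, Subgroup.mem_subgroupOf.mpr x.2⟩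
  have hχψ : Cfsg.classInner (fun x : F => (χ : G → ℂ) x) (ψ : F → ℂ) ≠ 0 := by
    refine inner_ne_zero_trans F U hFU (CharCore.irr_isCharacter χ) τ ψ hχ ?_
    simp only [hτres]
    rw [CharCore.classInner_irr_self ψ]
    exact one_ne_zero
  have hχa := hover χ hχψ
  set J := CharDeep.Ext.inertia U (τ : U → ℂ) with hJ
  have hUJ : U ≤ J := CharDeep.Ext.le_inertia U (CharCore.irr_isClassFunction τ)
  have := Fintype.ofFinite J
  obtain ⟨φ, hφ, hind, hinner⟩ := CharDeep.Ext.exists_inertia_induced U τ.2 J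
    (fun g => funext_iff) hUJ χ.2 hχ
  have hdeg : Cfsg.charDegree (χ : G → ℂ) = J.index * Cfsg.charDegree φ := degree_of_eq (by
    rw [← hind, CharInd.indFun_apply_one, Nat.cast_mul]
    exact congrArg _ (apply_one ⟨φ, hφ⟩))
  have hqφ : q ∣ Cfsg.charDegree φ := by
    let e' := Subgroup.subgroupOfEquivOfLe hUJ
    have := Fintype.ofFinite (U.subgroupOf J)
    haveI : (U.subgroupOf J).Normal := hUn.subgroupOf J
    have hτd : (τ : U → ℂ) 1 = ((Cfsg.charDegree (ψ : F → ℂ) : ℕ) : ℂ) := by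
      rw [← apply_one ψ, ← hτres 1]
      rfl
    refine hqψ.trans (CharDeep.Ext.dvd_degree_of_constituent (U.subgroupOf J)
      (θ := fun x => (τ : U → ℂ) (e' x))
      (CharCore.isIrrCharacter_comp_surjective τ.2 e'.toMonoidHom e'.surjective) hφ
      (by rw [map_one]; exact hτd) (apply_one (⟨φ, hφ⟩ : Cfsg.IrrCharacter J)) ?_)
    intro h0
    refine hχ ?_
    rw [← hinner, ← h0]
    unfold Cfsg.classInner
    rw [show Nat.card U = Nat.card (U.subgroupOf J) from Nat.card_congr e'.symm.toEquiv]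
    congr 1
    exact Fintype.sum_equiv e'.symm.toEquiv _ _ fun x => rfl
  set S := stab D l
  have hJS : J ≤ S.comap (QuotientGroup.mk' F) := by
    intro g hg
    rw [Subgroup.mem_comap, mem_stab]
    intro y
    obtain ⟨x₀, hx₀⟩ := QuotientGroup.mk'_surjective F (y : G ⧸ F)
    let x : U := ⟨x₀, by show QuotientGroup.mk' F x₀ ∈ D; rw [hx₀]; exact y.2⟩
    let c : U →* U := (MulAut.conjNormal g : MulAut U).toMonoidHom
    have hτc : (fun z : U => (τ : U → ℂ) (c z)) = τ := funext fun z => by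
      rw [← congrFun hg z]
      exact congrArg (τ : U → ℂ) (Subtype.ext (MulAut.conjNormal_apply g z))
    have hεc : Cfsg.IsCharacter U ε := CharCore.IsIrrCharacter.isCharacter hεirr
    obtain ⟨d, -, hd, hddvd, -⟩ :=
      CharDeep.TIFrob.exists_degree_dvd (⟨ε, hεirr⟩ : Cfsg.IrrCharacter U)
    have hdet : CharDeep.Ext.detHom (τ : U → ℂ) = δ ^ d * CharDeep.Ext.detHom ε :=
      CharDeep.Ext.detHom_hom_mul δ hεc hd
    have h1 := CharDeep.Ext.detHom_comp (CharCore.irr_isCharacter τ) c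
    rw [hτc, hdet] at h1
    have h2 : CharDeep.Ext.detHom ε ^ (q ^ k) = 1 :=
      (orderOf_dvd_iff_pow_eq_one (n := q ^ k)).mp (by
        rw [← CharDeep.Ext.detOrder_eq ε, hεdet, CharDeep.Ext.detOrder_eq]
        exact hord)
    have hdq : Nat.Coprime (d * q ^ k) (Nat.card D) := by
      have hdn : d = n := by
        have h3 := hεres 1
        rw [OneMemClass.coe_one] at h3
        have h4 : (d : ℂ) = (n : ℂ) := hd.symm.trans (h3.trans hn)
        exact_mod_cast h4
      refine Nat.Coprime.coprime_dvd_left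
        (mul_dvd_mul_right (hdn ▸ hNc ▸ hndvd : d ∣ q ^ k) _) ?_
      rw [← pow_add]
      exact Nat.Coprime.pow_left _ (hq.out.coprime_iff_not_dvd.mpr hqD)
    have h5 : δ (c x) ^ (d * q ^ k) = δ x ^ (d * q ^ k) := by
      have h6 := congrArg (fun f : U →* ℂˣ => f x ^ q ^ k) h1
      simp only [MonoidHom.comp_apply, MonoidHom.mul_apply, MonoidHom.pow_apply, mul_pow,
        ← pow_mul] at h6
      have e1 : ∀ z : U, CharDeep.Ext.detHom ε z ^ q ^ k = 1 := fun z => by
        rw [← MonoidHom.pow_apply, h2, MonoidHom.one_apply]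
      rw [e1, e1, mul_one, mul_one] at h6
      exact h6.symm
    have hpow : ∀ z : U, δ z ^ Nat.card D = 1 := fun z => by
      show l _ ^ _ = 1
      rw [← map_pow, pow_card_eq_one', map_one]
    have h7 : δ (c x) = δ x := by
      have h8 : (δ (c x) * (δ x)⁻¹) ^ (d * q ^ k) = 1 := by
        rw [mul_pow, inv_pow, h5, mul_inv_cancel]
      have h9 : (δ (c x) * (δ x)⁻¹) ^ Nat.card D = 1 := by
        rw [mul_pow, inv_pow, hpow, hpow, inv_one, mul_one]
      have h10 := pow_gcd_eq_one.mpr ⟨h8, h9⟩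
      rw [hdq.gcd_eq_one, pow_one, mul_inv_eq_one] at h10
      exact h10
    have hy : (QuotientGroup.mk' F).subgroupComap D x = y := Subtype.ext hx₀
    rw [← hy]
    refine Eq.trans (congrArg l (Subtype.ext ?_)) h7
    rw [MulAut.conjNormal_apply]
    show _ = QuotientGroup.mk' F ((c x : U) : G)
    rw [show ((c x : U) : G) = g * x₀ * g⁻¹ from MulAut.conjNormal_apply g x, map_mul, map_mul,
      map_inv]
    rfl
  have hidx : S.index ∣ J.index := by
    rw [← Subgroup.index_comap_of_surjective S (QuotientGroup.mk'_surjective F)]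
    exact Subgroup.index_dvd_of_le hJS
  have hfin : q * J.index ∣ m * J.index := by
    refine dvd_trans ?_ (ham.trans (mul_dvd_mul_left m hidx))
    rw [← hχa, hdeg, mul_comm q]
    exact mul_dvd_mul_left _ hqφ
  exact hm ((Nat.mul_dvd_mul_iff_right
    (Nat.pos_of_ne_zero Subgroup.index_ne_zero_of_finite)).mp hfin)

end Cfsg.Agent.BC87.ThreeDeg
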