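import Cfsg.Agent.BC87.ThreeDeg.Closure

/-!
# Groups with at most three character degrees are solvable
-/

namespace Cfsg.Agent.BC87.ThreeDeg

open CharDeep.Deg

universe u

variable {G : Type u} [Group G] [Finite G] {a b : ℕ}

/-- A character of maximal degree has kernel in the Fitting subgroup. -/
theorem mem_fitting_of_kernel (ψ : Cfsg.IrrCharacter G)
    (hmax : ∀ χ : Cfsg.IrrCharacter G,
      Cfsg.charDegree (χ : G → ℂ) ≤ Cfsg.charDegree (ψ : G → ℂ))
    {g : G} (hg : (ψ : G → ℂ) g = (ψ : G → ℂ) 1) : g ∈ Cfsg.fittingSubgroup G := by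
  classical
  have := Fintype.ofFinite G
  by_contra hgF
  obtain ⟨χ, hlt, -⟩ := exists_larger_of_not_le ψ
    (CharCore.charKernel (CharCore.irr_isCharacter ψ)) (fun _ => Iff.rfl) fun hle => hgF (hle hg)
  exact absurd (hmax χ) (not_le.mpr hlt)

theorem isSolvable_of_kernel_extension (N : Subgroup G) [N.Normal] (h1 : Group.IsSolvable N)
    (h2 : Group.IsSolvable (G ⧸ N)) : Group.IsSolvable G :=
  (Group.isSolvable_iff_subgroup_quotient N).mpr ⟨h1, h2⟩

theorem isSolvable_aux : ∀ (n : ℕ) (G : Type u) [Group G] [Finite G], Nat.card G ≤ n →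
    ∀ a b : ℕ, Deg3 G a b → Group.IsSolvable G := by
  intro n
  induction n with
  | zero => intro G _ _ h; exact absurd h (not_le_of_gt Nat.card_pos)
  | succ n ih =>
    intro G _ _ hn a₀ b₀ h₀
    classical
    have := Fintype.ofFinite G
    rcases h₀.normalize with ⟨m, hm⟩ | ⟨a, b, ha, hab, h, ⟨χa, hχa⟩, ⟨χb, hχb⟩⟩
    · exact ⟨⟨2, derivedSeries_two hm⟩⟩
    have hquot : ∀ (N : Subgroup G) [N.Normal], N ≠ ⊥ → Group.IsSolvable (G ⧸ N) := by
      intro N _ hN
      refine ih (G ⧸ N) ?_ a b (h.quotient N)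
      have h1 : 1 < Nat.card N := (Subgroup.one_lt_card_iff_ne_bot N).mpr hN
      have h2 := Subgroup.card_eq_card_quotient_mul_card_subgroup N
      have h3 : 0 < Nat.card (G ⧸ N) := Nat.card_pos
      nlinarith
    by_cases hFbot : Cfsg.fittingSubgroup G ≠ ⊥
    · haveI : Group.IsNilpotent (Cfsg.fittingSubgroup G) := Fitting.fitting_isNilpotent
      haveI : (Cfsg.fittingSubgroup G).Normal := inferInstance
      exact isSolvable_of_kernel_extension _ inferInstance (hquot _ hFbot)
    push Not at hFbot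
    have hfaith : ∀ ψ : Cfsg.IrrCharacter G, Cfsg.charDegree (ψ : G → ℂ) = b →
        ∀ g : G, (ψ : G → ℂ) g = (ψ : G → ℂ) 1 → g = 1 := by
      intro ψ hψ g hg
      rw [← Subgroup.mem_bot, ← hFbot]
      refine mem_fitting_of_kernel ψ (fun χ => ?_) hg
      rcases h χ with h' | h' | h' <;> omega
    have card_lt : ∀ (N : Subgroup G), N ≠ ⊤ → Nat.card N ≤ n := by
      intro N hN
      have h1 : N.index ≠ 1 := fun e => hN (Subgroup.index_eq_one.mp e)
      have h2 : N.index ≠ 0 := Subgroup.index_ne_zero_of_finite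
      have h3 := N.index_mul_card
      have h4 : 0 < Nat.card N := Nat.card_pos
      have h5 : 2 ≤ N.index := by omega
      nlinarith
    have ppart : ∀ (p : ℕ) [Fact p.Prime] (N : Subgroup G) [N.Normal] (k : ℕ),
        N.index = p ^ k → Group.IsSolvable (G ⧸ N) := by
      intro p _ N _ k hk
      haveI : Group.IsNilpotent (G ⧸ N) := IsPGroup.isNilpotent
        (IsPGroup.of_card (p := p) (n := k) (by rw [← Subgroup.index_eq_card, hk]))
      infer_instance
    by_cases hcop : Nat.Coprime a b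
    swap
    · obtain ⟨p, hp, hpa, hpb⟩ := Nat.Prime.not_coprime_iff_dvd.mp hcop
      haveI := Fact.mk hp
      obtain ⟨N, hNn, hNp, k, hk⟩ := Cfsg.Agent.S4456.result (G := G) p hp fun χ hχ => by
        rcases (h χ).resolve_left hχ with h' | h' <;> rw [h'] <;> assumption
      have := Fintype.ofFinite N
      have hNtop : N ≠ ⊤ := by
        intro e
        rw [e, Subgroup.card_top] at hNp
        obtain ⟨d, -, hd, hdvd, -⟩ := CharDeep.TIFrob.exists_degree_dvd χa
        rw [← degree_of_eq hd, hχa] at hdvd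
        exact (hp.coprime_iff_not_dvd.mp hNp.symm) (hpa.trans hdvd)
      refine isSolvable_of_kernel_extension N ?_ (ppart p N k hk)
      refine ih N (card_lt N hNtop) (ordCompl[p] a) (ordCompl[p] b) fun θ => ?_
      obtain ⟨χ, hχ⟩ := CharCore.exists_over N θ
      obtain ⟨d, -, hd, hdvd, -⟩ := CharDeep.TIFrob.exists_degree_dvd θ
      have hθp : ¬ p ∣ Cfsg.charDegree (θ : N → ℂ) := by
        rw [degree_of_eq hd]
        exact fun e => hp.coprime_iff_not_dvd.mp hNp.symm (e.trans hdvd)
      rw [degree_eq_ordCompl hp N hk θ χ hχ hθp]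
      rcases h χ with h' | h' | h' <;> rw [h'] <;> simp
    obtain ⟨K, hKn, hK0, hK⟩ := exists_kernel h ha hab hcop hfaith ⟨χb, hχb⟩
    obtain ⟨p, hp, hpa⟩ := Nat.exists_prime_and_dvd (by omega : a ≠ 1)
    haveI := Fact.mk hp
    have hpb : ¬ p ∣ b := fun e =>
      hp.ne_one (Nat.eq_one_of_dvd_coprimes hcop hpa e)
    have hdeg : ∀ θ : Cfsg.IrrCharacter (G ⧸ K), Cfsg.charDegree (θ : G ⧸ K → ℂ) ≠ b := by
      intro θ hθ
      obtain ⟨χ, hχ, hval⟩ := exists_inflate K θ
      refine hK0 (eq_bot_iff.mpr fun k hk => Subgroup.mem_bot.mpr ?_)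
      refine hfaith χ (hχ.trans hθ) k ?_
      rw [hval, hval, map_one, QuotientGroup.mk'_apply, (QuotientGroup.eq_one_iff k).mpr hk]
    obtain ⟨N', hN'n, hN'p, k, hk⟩ := Cfsg.Agent.S4456.result (G := G ⧸ K) p hp fun θ hθ => by
      obtain ⟨χ, hχ, -⟩ := exists_inflate K θ
      have h1 := h χ
      rw [hχ] at h1
      rw [(h1.resolve_left hθ).resolve_right (hdeg θ)]
      exact hpa
    let N := N'.comap (QuotientGroup.mk' K)
    have hNn : N.Normal := hN'n.comap _
    have hKN : K ≤ N := fun x hx => by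
      show QuotientGroup.mk' K x ∈ N'
      rw [QuotientGroup.mk'_apply, (QuotientGroup.eq_one_iff x).mpr hx]
      exact one_mem _
    have hidx : N.index = p ^ k := by
      rw [← hk]
      exact Subgroup.index_comap_of_surjective _ (QuotientGroup.mk'_surjective K)
    have := Fintype.ofFinite N
    have hNtop : N ≠ ⊤ := by
      intro e
      have hN'top : N' = ⊤ := by
        rw [← Subgroup.index_eq_one, hk, ← hidx, e, Subgroup.index_top]
      rw [hN'top, Subgroup.card_top] at hN'p
      have hchar := fun x (hx : x ∈ K) => hK χa (by omega) x hx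
      obtain ⟨ψ, -, hirr, hψ⟩ :=
        CharCore.IsCharacter.exists_quotient (CharCore.irr_isCharacter χa) K hchar
      obtain ⟨d, -, hd, hdvd, -⟩ :=
        CharDeep.TIFrob.exists_degree_dvd (⟨ψ, hirr χa.2⟩ : Cfsg.IrrCharacter (G ⧸ K))
      have hd' : Cfsg.charDegree (χa : G → ℂ) = d := degree_of_eq (by rw [hψ, map_one]; exact hd)
      exact (hp.coprime_iff_not_dvd.mp hN'p.symm) (hpa.trans ((hd'.symm.trans hχa).symm ▸ hdvd))
    refine isSolvable_of_kernel_extension N ?_ (ppart p N k hidx)
    refine ih N (card_lt N hNtop) (ordCompl[p] a) b fun θ => ?_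
    obtain ⟨χ, hχ⟩ := CharCore.exists_over N θ
    by_cases hχb' : Cfsg.charDegree (χ : G → ℂ) = b
    · obtain ⟨hdvd, -⟩ := CharB.degree_dvd N χ.2 θ.2 hχ (apply_one χ) (apply_one θ)
      have hθp : ¬ p ∣ Cfsg.charDegree (θ : N → ℂ) := fun e => hpb (hχb' ▸ e.trans hdvd)
      rw [degree_eq_ordCompl hp N hidx θ χ hχ hθp, hχb',
        (Nat.ordCompl_eq_self_iff_zero_or_not_dvd b hp).mpr (Or.inr hpb)]
      exact Or.inr (Or.inr rfl)
    · haveI : (K.subgroupOf N).Normal := hKn.subgroupOf N
      obtain ⟨η, -, hirr, hη⟩ := CharCore.IsCharacter.exists_quotient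
        (CharCore.irr_isCharacter θ) (K.subgroupOf N) fun x hx => by
          refine Coherence.constituent_apply_eq
            (CharCore.isCharacter_restrict (CharCore.irr_isCharacter χ) N) (b := x) ?_ θ hχ
          rw [OneMemClass.coe_one]
          exact hK χ hχb' x (Subgroup.mem_subgroupOf.mp hx)
      obtain ⟨d, -, hd, hdvd, -⟩ :=
        CharDeep.TIFrob.exists_degree_dvd (⟨η, hirr θ.2⟩ : Cfsg.IrrCharacter (N ⧸ K.subgroupOf N))
      have hd' : Cfsg.charDegree (θ : N → ℂ) = d := degree_of_eq (by rw [hη, map_one]; exact hd)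
      have hcard : Nat.card (N ⧸ K.subgroupOf N) = Nat.card N' := by
        let f : N →* N' := (QuotientGroup.mk' K).subgroupComap N'
        have hf : f.ker = K.subgroupOf N := by
          ext x
          rw [MonoidHom.mem_ker, Subgroup.mem_subgroupOf, ← QuotientGroup.eq_one_iff (N := K),
            Subtype.ext_iff]
          rfl
        rw [← hf]
        exact Nat.card_congr (QuotientGroup.quotientKerEquivOfSurjective f
          (MonoidHom.subgroupComap_surjective_of_surjective _ _
            (QuotientGroup.mk'_surjective K))).toEquiv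
      rw [hcard] at hdvd
      have hθp : ¬ p ∣ Cfsg.charDegree (θ : N → ℂ) := fun e =>
        hp.coprime_iff_not_dvd.mp hN'p.symm ((hd' ▸ e).trans hdvd)
      rw [degree_eq_ordCompl hp N hidx θ χ hχ hθp]
      rcases h χ with h' | h' | h'
      · rw [h']; simp
      · rw [h']; simp
      · exact absurd h' hχb'

/-- At most three degrees force solvability. -/
theorem isSolvable (h : Deg3 G a b) : Group.IsSolvable G := isSolvable_aux _ G le_rfl a b h

end Cfsg.Agent.BC87.ThreeDeg
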