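import Cfsg.Agent.CharDeep.Deg.TwoDegMain
import Cfsg.Agent.CharDeep.Deg.FittingDeg
import Cfsg.Agent.BlkChar.PResidualChar

/-!
# Groups with at most three character degrees: tools
-/

namespace Cfsg.Agent.BC87.ThreeDeg

open CharDeep.Deg
open scoped ComplexConjugate commutatorElement

universe u

/-- All irreducible degrees lie in `{1, a, b}`. -/
def Deg3 (G : Type u) [Group G] (a b : ℕ) : Prop :=
  ∀ χ : Cfsg.IrrCharacter G, Cfsg.charDegree (χ : G → ℂ) = 1 ∨
    Cfsg.charDegree (χ : G → ℂ) = a ∨ Cfsg.charDegree (χ : G → ℂ) = b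

variable {G : Type u} [Group G] [Finite G] {a b : ℕ}

theorem Deg3.quotient (h : Deg3 G a b) (N : Subgroup G) [N.Normal] : Deg3 (G ⧸ N) a b := fun θ => by
  obtain ⟨χ, hχ, -⟩ := exists_inflate N θ
  exact hχ ▸ h χ

/-- Either at most two degrees, or two different nonlinear degrees both occur. -/
theorem Deg3.normalize (h : Deg3 G a b) :
    (∃ m, ∀ χ : Cfsg.IrrCharacter G, Cfsg.charDegree (χ : G → ℂ) = 1 ∨
      Cfsg.charDegree (χ : G → ℂ) = m) ∨
    ∃ a' b', 1 < a' ∧ a' < b' ∧ Deg3 G a' b' ∧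
      (∃ χ : Cfsg.IrrCharacter G, Cfsg.charDegree (χ : G → ℂ) = a') ∧
      ∃ χ : Cfsg.IrrCharacter G, Cfsg.charDegree (χ : G → ℂ) = b' := by
  by_cases ha : ∃ χ : Cfsg.IrrCharacter G, Cfsg.charDegree (χ : G → ℂ) = a
  swap
  · push Not at ha
    exact Or.inl ⟨b, fun χ => (h χ).imp_right fun h' => h'.resolve_left (ha χ)⟩
  by_cases hb : ∃ χ : Cfsg.IrrCharacter G, Cfsg.charDegree (χ : G → ℂ) = b
  swap
  · push Not at hb
    exact Or.inl ⟨a, fun χ => (h χ).imp_right fun h' => h'.resolve_right (hb χ)⟩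
  by_cases hab : a = b
  · subst hab
    exact Or.inl ⟨a, fun χ => (h χ).imp_right fun h' => h'.elim id id⟩
  by_cases ha1 : a = 1
  · exact Or.inl ⟨b, fun χ => by rcases h χ with h' | h' | h' <;> simp [h', ha1]⟩
  by_cases hb1 : b = 1
  · exact Or.inl ⟨a, fun χ => by rcases h χ with h' | h' | h' <;> simp [h', hb1]⟩
  right
  have hapos : 0 < a := by obtain ⟨χ, hχ⟩ := ha; exact hχ ▸ degree_pos χ
  have hbpos : 0 < b := by obtain ⟨χ, hχ⟩ := hb; exact hχ ▸ degree_pos χ
  rcases Nat.lt_or_ge a b with hlt | hge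
  · exact ⟨a, b, by omega, hlt, h, ha, hb⟩
  · exact ⟨b, a, by omega, by omega, fun χ => (h χ).imp_right Or.symm, hb, ha⟩

/-- At most two degrees: the second derived subgroup is trivial. -/
theorem derivedSeries_two {m : ℕ} (h : ∀ χ : Cfsg.IrrCharacter G,
    Cfsg.charDegree (χ : G → ℂ) = 1 ∨ Cfsg.charDegree (χ : G → ℂ) = m) :
    derivedSeries G 2 = ⊥ := by
  have := Fintype.ofFinite G
  rw [derivedSeries_succ, derivedSeries_one, eq_bot_iff, Subgroup.commutator_le]
  intro x hx y hy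
  rw [Subgroup.mem_bot, commutatorElement_eq_one_iff_mul_comm]
  by_cases hm : ∃ χ : Cfsg.IrrCharacter G, Cfsg.charDegree (χ : G → ℂ) = m
  · by_cases hm1 : m = 1
    · exact commute_of_degree_one (fun χ => (h χ).elim id (fun h' => h'.trans hm1)) x y
    · exact derived_commute h hm hm1 x hx y hy
  · push Not at hm
    exact commute_of_degree_one (fun χ => (h χ).resolve_right (hm χ)) x y

omit [Finite G] in
theorem derivedSeries_le_of_quotient (N : Subgroup G) [N.Normal] (n : ℕ)
    (h : derivedSeries (G ⧸ N) n = ⊥) : derivedSeries G n ≤ N := by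
  rw [← map_derivedSeries_eq (QuotientGroup.mk'_surjective N), Subgroup.map_eq_bot_iff,
    QuotientGroup.ker_mk'] at h
  exact h

theorem sum_degree {f : G → ℂ} [Fintype G] (hf : Cfsg.IsCharacter G f) {n : ℕ} (hn : f 1 = n) :
    ∃ m : Cfsg.IrrCharacter G → ℕ, f = ∑ ψ : Cfsg.IrrCharacter G, (m ψ : ℂ) • (ψ : G → ℂ) ∧
      (∀ ψ : Cfsg.IrrCharacter G, Cfsg.classInner f (ψ : G → ℂ) = m ψ) ∧
      n = ∑ ψ, m ψ * Cfsg.charDegree (ψ : G → ℂ) := by
  obtain ⟨m, hm⟩ := CharCore.IsCharacter.exists_sum hf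
  refine ⟨m, hm, fun ψ => by rw [hm, CharCore.classInner_sum_all], ?_⟩
  have h := congrFun hm 1
  simp only [Finset.sum_apply, Pi.smul_apply, smul_eq_mul, apply_one, hn] at h
  exact_mod_cast h

/-- A normal subgroup in all kernels of degree less than `|G : H|` lies in `H`. -/
theorem le_of_index (H N : Subgroup G) [N.Normal]
    (hker : ∀ χ : Cfsg.IrrCharacter G, Cfsg.charDegree (χ : G → ℂ) < H.index →
      ∀ x ∈ N, (χ : G → ℂ) x = (χ : G → ℂ) 1) : N ≤ H := by
  classical
  have := Fintype.ofFinite G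
  have := Fintype.ofFinite H
  intro g hg
  by_cases hH : H = ⊤
  · rw [hH]; exact Subgroup.mem_top g
  set f : G → ℂ := Cfsg.indFun H (1 : H → ℂ) with hf
  have hf1 : f 1 = ((H.index : ℕ) : ℂ) := by rw [hf, CharInd.indFun_apply_one]; simp
  obtain ⟨m, hm, hmi, hsum⟩ :=
    sum_degree (f := f) (CharInd.isCharacter_indFun H CharCore.isCharacter_one) hf1
  let o : Cfsg.IrrCharacter G := ⟨1, CharCore.isIrrCharacter_one⟩
  have ho : Cfsg.charDegree (o : G → ℂ) = 1 := degree_of_eq (n := 1) (by simp [o])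
  have hm1 : m o = 1 := by
    have h := hmi o
    rw [hf, CharInd.classInner_indFun_left H _ (CharCore.irr_isClassFunction o)] at h
    have h1 : Cfsg.classInner (1 : H → ℂ) (fun x : H => (o : G → ℂ) x) = 1 :=
      CharCore.classInner_irr_self ⟨1, CharCore.isIrrCharacter_one⟩
    exact_mod_cast h.symm.trans h1
  have hidx : 2 ≤ H.index := by
    have h1 : H.index ≠ 1 := fun e => hH (Subgroup.index_eq_one.mp e)
    have h2 : H.index ≠ 0 := Subgroup.index_ne_zero_of_finite
    omega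
  have hall : ∀ ψ, m ψ ≠ 0 → (ψ : G → ℂ) g = (ψ : G → ℂ) 1 := by
    intro ψ hψ
    by_cases hψo : ψ = o
    · rw [hψo]; rfl
    refine hker ψ ?_ g hg
    have h2 : m ψ * Cfsg.charDegree (ψ : G → ℂ) + m o * Cfsg.charDegree (o : G → ℂ) ≤ H.index := by
      rw [hsum, ← Finset.sum_pair hψo (f := fun χ => m χ * Cfsg.charDegree (χ : G → ℂ))]
      exact Finset.sum_le_sum_of_subset (Finset.subset_univ _)
    rw [hm1, ho] at h2
    have : Cfsg.charDegree (ψ : G → ℂ) ≤ m ψ * Cfsg.charDegree (ψ : G → ℂ) :=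
      Nat.le_mul_of_pos_left _ (Nat.pos_of_ne_zero hψ)
    omega
  have hval : f g = f 1 := by
    rw [congrFun hm g, congrFun hm 1]
    simp only [Finset.sum_apply, Pi.smul_apply, smul_eq_mul]
    refine Finset.sum_congr rfl fun ψ _ => ?_
    by_cases h : m ψ = 0
    · rw [h, Nat.cast_zero, zero_mul, zero_mul]
    · rw [hall ψ h]
  rw [hf1, hf, CharInd.indFun_apply] at hval
  have hterm : ∀ y : G, Cfsg.extendByZero H (1 : H → ℂ) (y⁻¹ * g * y) =
      if y⁻¹ * g * y ∈ H then 1 else 0 := by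
    intro y
    split_ifs with hy
    · rw [CharInd.extendByZero_mem _ hy]; rfl
    · exact CharInd.extendByZero_notMem _ hy
  simp only [hterm, Finset.sum_boole] at hval
  rw [inv_mul_eq_iff_eq_mul₀ (CharInd.natCard_subgroup_ne_zero H), ← Nat.cast_mul,
    mul_comm, H.index_mul_card, Nat.cast_inj, Nat.card_eq_fintype_card, ← Finset.card_univ] at hval
  have h := Finset.card_filter_eq_iff.mp hval 1 (Finset.mem_univ _)
  simpa using h

/-- Small index forces containing the commutator subgroup. -/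
theorem commutator_le_of_index_le (H : Subgroup G)
    (h : ∀ χ : Cfsg.IrrCharacter G, Cfsg.charDegree (χ : G → ℂ) = 1 ∨
      H.index ≤ Cfsg.charDegree (χ : G → ℂ)) : commutator G ≤ H :=
  have := Fintype.ofFinite G
  le_of_index H (commutator G) fun χ hlt _ hx =>
    apply_eq_of_mem_commutator χ ((h χ).resolve_right (by omega)) hx

omit [Finite G] in
/-- An induced linear character is trivial on the commutators of a normal subgroup below. -/
theorem indFun_apply_of_commutator [Fintype G] (H N : Subgroup G) [hN : N.Normal] [Fintype H]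
    (lam : H →* ℂˣ) (hle : N ≤ H) {x : G} (hx : x ∈ ⁅N, N⁆) :
    Cfsg.indFun H (fun h => (lam h : ℂ)) x = Cfsg.indFun H (fun h => (lam h : ℂ)) 1 := by
  classical
  rw [CharInd.indFun_apply, CharInd.indFun_apply]
  congr 1
  refine Finset.sum_congr rfl fun y _ => ?_
  have hm : y⁻¹ * x * y ∈ ⁅N, N⁆ := by
    have hn : (⁅N, N⁆ : Subgroup G).Normal := inferInstance
    simpa using hn.conj_mem x hx y⁻¹
  have he : (⁅N, N⁆ : Subgroup G) =
      (⁅N.subgroupOf H, N.subgroupOf H⁆).map H.subtype := by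
    rw [Subgroup.map_commutator, Subgroup.subgroupOf_map_subtype, inf_eq_left.2 hle]
  rw [he] at hm
  obtain ⟨z, hz, hzx⟩ := hm
  have hz' : lam z = 1 :=
    Abelianization.commutator_subset_ker lam (Subgroup.commutator_mono le_top le_top hz)
  rw [Subgroup.coe_subtype] at hzx
  rw [← hzx, CharInd.extendByZero_coe, show y⁻¹ * 1 * y = ((1 : H) : G) by simp,
    CharInd.extendByZero_coe, hz', map_one]

/-- The nilpotent case. -/
theorem derivedSeries_three_of_isNilpotent [Group.IsNilpotent G] (hab : a ≤ b)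
    (h : Deg3 G a b) : derivedSeries G 3 = ⊥ := by
  classical
  have := Fintype.ofFinite G
  haveI := derivedSeries_normal G 2
  have key : ∀ χ : Cfsg.IrrCharacter G, ∀ N : Subgroup G, N.Normal →
      (∀ ψ : Cfsg.IrrCharacter G,
        Cfsg.charDegree (ψ : G → ℂ) < Cfsg.charDegree (χ : G → ℂ) →
        ∀ x ∈ N, (ψ : G → ℂ) x = (ψ : G → ℂ) 1) →
      ∀ x ∈ ⁅N, N⁆, (χ : G → ℂ) x = (χ : G → ℂ) 1 := by
    intro χ N hN hker x hx
    obtain ⟨H, lam, hlam⟩ := Cfsg.Agent.S0176.result (χ : G → ℂ) χ.2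
    have := Fintype.ofFinite H
    have hH : Cfsg.charDegree (χ : G → ℂ) = H.index := by
      refine degree_of_eq ?_
      rw [hlam, CharInd.indFun_apply_one]
      simp
    rw [hlam]
    exact indFun_apply_of_commutator H N lam (le_of_index H N (hH ▸ hker)) hx
  have h1 : ∀ χ : Cfsg.IrrCharacter G, Cfsg.charDegree (χ : G → ℂ) ≠ b →
      ∀ x ∈ derivedSeries G 2, (χ : G → ℂ) x = (χ : G → ℂ) 1 := by
    intro χ hχ x hx
    rw [derivedSeries_succ, derivedSeries_one] at hx
    rcases h χ with h' | h' | h'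
    · exact apply_eq_of_mem_commutator χ h' (Subgroup.commutator_mono le_top le_top hx)
    · refine key χ (commutator G) inferInstance (fun ψ hlt y hy => ?_) x hx
      exact apply_eq_of_mem_commutator ψ ((h ψ).resolve_right (by omega)) hy
    · exact absurd h' hχ
  rw [derivedSeries_succ, eq_bot_iff]
  intro x hx
  refine Subgroup.mem_bot.mpr (CharDeep.Ext.eq_one_of_forall_irr fun χ => ?_)
  by_cases hχ : Cfsg.charDegree (χ : G → ℂ) = b
  · exact key χ _ inferInstance (fun ψ hlt => h1 ψ (by omega)) x hx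
  · exact h1 χ hχ x (Subgroup.commutator_le_left _ _ hx)

/-- The degree of a constituent of the restriction to a normal subgroup of `p`-power index. -/
theorem degree_eq_ordCompl {p k : ℕ} (hp : p.Prime) (N : Subgroup G) [N.Normal] [Fintype N]
    [Fintype G] (hk : N.index = p ^ k) (θ : Cfsg.IrrCharacter N) (χ : Cfsg.IrrCharacter G)
    (hcon : Cfsg.classInner (fun n : N => (χ : G → ℂ) n) θ ≠ 0)
    (hθ : ¬ p ∣ Cfsg.charDegree (θ : N → ℂ)) :
    Cfsg.charDegree (θ : N → ℂ) = ordCompl[p] (Cfsg.charDegree (χ : G → ℂ)) := by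
  obtain ⟨hdvd, hidx⟩ := CharB.degree_dvd N χ.2 θ.2 hcon (apply_one χ) (apply_one θ)
  rw [hk] at hidx
  obtain ⟨i, -, hi⟩ := (Nat.dvd_prime_pow hp).mp hidx
  have hmul := Nat.mul_div_cancel' hdvd
  rw [hi] at hmul
  rw [← hmul, mul_comm, Nat.ordCompl_pow_mul_of_not_dvd i hp hθ]

/-- An element killed by all linear characters lies in the derived subgroup. -/
theorem mem_commutator_of_forall_hom {x : G} (h : ∀ l : G →* ℂˣ, l x = 1) :
    x ∈ commutator G := by
  have := Fintype.ofFinite (Abelianization G)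
  rw [← Abelianization.ker_of G, MonoidHom.mem_ker]
  refine CharDeep.Ext.eq_one_of_forall_irr fun θ => ?_
  obtain ⟨d, -, hd, -, hd1⟩ := CharDeep.TIFrob.exists_degree_dvd θ
  rw [hd1 (fun u v => mul_comm u v), Nat.cast_one] at hd
  obtain ⟨f, hf⟩ := CharCore.IsCharacter.exists_hom_of_degree_one (CharCore.irr_isCharacter θ) hd
  have h1 := h (f.comp Abelianization.of)
  rw [MonoidHom.comp_apply] at h1
  simp [hf, h1]

end Cfsg.Agent.BC87.ThreeDeg
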